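import Cfsg.Agent.Signalizer.FusComp.Step

/-!
Tools: restrictions and powers of automorphisms, conjugation modulo an abelian normal `p`-subgroup.
-/

set_option autoImplicit false
set_option linter.style.haveILetI false
set_option linter.unusedSectionVars false

namespace Cfsg.Agent.Signalizer.EBal

open Cfsg Cfsg.FusionSystem Cfsg.Agent.FusionSys Cfsg.Agent.H91.CentFocal
open Cfsg.FusionSystem (centralizerIn normalizerIn)

/-- Two elements of order prime to `p` congruent modulo an abelian normalized `p`-subgroup are conjugate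
under it. -/
theorem exists_conj_of_mod {G : Type*} [Group G] {A : Subgroup G} {p : ℕ} [Fact p.Prime]
    (hA : IsPGroup p A) (hab : ∀ a ∈ A, ∀ b ∈ A, a * b = b * a) {α β : G}
    (hα' : ∀ a ∈ A, α⁻¹ * a * α ∈ A)
    (hαo : (orderOf α).Coprime p) (hβo : (orderOf β).Coprime p)
    (hk : α⁻¹ * β ∈ A) : ∃ σ ∈ A, σ * α * σ⁻¹ = β := by
  set k := α⁻¹ * β with hkdef
  -- the image of `σ ↦ [α, σ]`
  let d : Subgroup G :=
    { carrier := {x | ∃ σ ∈ A, α⁻¹ * σ * α * σ⁻¹ = x}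
      one_mem' := ⟨1, one_mem _, by group⟩
      mul_mem' := by
        rintro _ _ ⟨a, ha, rfl⟩ ⟨b, hb, rfl⟩
        refine ⟨a * b, mul_mem ha hb, ?_⟩
        have h1 : a⁻¹ * (α⁻¹ * b * α) = α⁻¹ * b * α * a⁻¹ := hab _ (inv_mem ha) _ (hα' b hb)
        have h2 : b⁻¹ * a⁻¹ = a⁻¹ * b⁻¹ := hab _ (inv_mem hb) _ (inv_mem ha)
        calc α⁻¹ * (a * b) * α * (a * b)⁻¹
            = α⁻¹ * a * α * (α⁻¹ * b * α) * (b⁻¹ * a⁻¹) := by group
          _ = α⁻¹ * a * α * (α⁻¹ * b * α) * (a⁻¹ * b⁻¹) := by rw [h2]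
          _ = α⁻¹ * a * α * ((α⁻¹ * b * α) * a⁻¹) * b⁻¹ := by group
          _ = α⁻¹ * a * α * (a⁻¹ * (α⁻¹ * b * α)) * b⁻¹ := by rw [h1]
          _ = _ := by group
      inv_mem' := by
        rintro _ ⟨a, ha, rfl⟩
        refine ⟨a⁻¹, inv_mem ha, ?_⟩
        have h1 : a * (α⁻¹ * a⁻¹ * α) = α⁻¹ * a⁻¹ * α * a := hab _ ha _ (hα' _ (inv_mem ha))
        calc α⁻¹ * a⁻¹ * α * a⁻¹⁻¹ = α⁻¹ * a⁻¹ * α * a := by group
          _ = a * (α⁻¹ * a⁻¹ * α) := h1.symm
          _ = _ := by group }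
  have hdA : d ≤ A := by
    rintro _ ⟨a, ha, rfl⟩
    exact mul_mem (hα' a ha) (inv_mem ha)
  -- powers of `β` modulo `d`
  have key : ∀ j : ℕ, ∃ x ∈ d, β ^ j = α ^ j * (k ^ j * x) := by
    intro j
    induction j with
    | zero => exact ⟨1, one_mem _, by simp⟩
    | succ j ih =>
      obtain ⟨x, hx, he⟩ := ih
      set y := k ^ j * x with hy
      have hyA : y ∈ A := mul_mem (pow_mem hk j) (hdA hx)
      refine ⟨x * (α⁻¹ * y * α * y⁻¹), mul_mem hx ⟨y, hyA, rfl⟩, ?_⟩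
      have hβ : β = α * k := by rw [hkdef, mul_inv_cancel_left]
      have hc : (α⁻¹ * y * α * y⁻¹) ∈ A := mul_mem (hα' y hyA) (inv_mem hyA)
      calc β ^ (j + 1) = α ^ j * y * (α * k) := by rw [pow_succ, he, hβ]
        _ = α ^ (j + 1) * ((α⁻¹ * y * α) * k) := by rw [pow_succ]; group
        _ = α ^ (j + 1) * (k * (α⁻¹ * y * α)) := by rw [hab _ hk _ (hα' y hyA)]
        _ = α ^ (j + 1) * (k * ((α⁻¹ * y * α * y⁻¹) * y)) := by group
        _ = α ^ (j + 1) * (k * (y * (α⁻¹ * y * α * y⁻¹))) := by rw [hab _ hc _ hyA]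
        _ = _ := by rw [hy, pow_succ' k]; group
  obtain ⟨n, hn⟩ := hA ⟨k, hk⟩
  have hkn : k ^ p ^ n = 1 := congrArg Subtype.val hn
  set m := orderOf α with hm
  obtain ⟨x, hx, he⟩ := key m
  rw [hm, pow_orderOf_eq_one, one_mul] at he
  have hbA : β ^ m ∈ A := he ▸ mul_mem (pow_mem hk _) (hdA hx)
  obtain ⟨l, hl⟩ := hA ⟨_, hbA⟩
  have hb1 : β ^ m = 1 := orderOf_eq_one_iff.1 (Nat.eq_one_of_dvd_coprimes (hβo.pow_right l)
    ((orderOf_pow_dvd m)) (orderOf_dvd_of_pow_eq_one (congrArg Subtype.val hl)))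
  rw [← hm, hb1] at he
  have hkm : k ^ m ∈ d := by
    rw [eq_inv_of_mul_eq_one_left he.symm]
    exact inv_mem hx
  have hkd : k ∈ d := by
    have hb := Nat.gcd_eq_gcd_ab (p ^ n) m
    rw [(hαo.pow_right n).symm.gcd_eq_one, Nat.cast_one] at hb
    rw [← zpow_one k, hb, zpow_add, zpow_mul, zpow_mul, zpow_natCast, zpow_natCast, hkn, one_zpow,
      one_mul]
    exact zpow_mem hkm _
  obtain ⟨σ, hσ, hσe⟩ := hkd
  refine ⟨σ, hσ, ?_⟩
  calc σ * α * σ⁻¹ = α * (α⁻¹ * σ * α * σ⁻¹) := by group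
    _ = β := by rw [hσe, hkdef, mul_inv_cancel_left]

/-- An element of order prime to `p` congruent modulo `p`-elements to a member of a normal subgroup is in it. -/
theorem mem_of_mul_periodic {G : Type*} [Group G] {K : Subgroup G} {k d b : G} {p n : ℕ} (hk : k ∈ K)
    (hK : ∀ j : ℕ, ∀ x ∈ K, d ^ j * x * (d ^ j)⁻¹ ∈ K) (hb : b = k * d) (hd : d ^ p ^ n ∈ K)
    (hco : (orderOf b).Coprime p) : b ∈ K := by
  have key : ∀ j : ℕ, ∃ h ∈ K, b ^ j = h * d ^ j := by
    intro j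
    induction j with
    | zero => exact ⟨1, one_mem _, by simp⟩
    | succ j ih =>
      obtain ⟨h, hh, he⟩ := ih
      refine ⟨h * (d ^ j * k * (d ^ j)⁻¹), mul_mem hh (hK j k hk), ?_⟩
      rw [pow_succ, he, hb, pow_succ]
      group
  obtain ⟨h, hh, he⟩ := key (p ^ n)
  have h1 : b ^ p ^ n ∈ K := he ▸ mul_mem hh hd
  obtain ⟨c, hc⟩ := exists_pow_eq_self_of_coprime (x := b) (Nat.Coprime.pow_right n hco).symm
  rw [← hc]
  exact pow_mem h1 c

variable {Ω : Type*} [Group Ω] {S : Subgroup Ω} [Finite S] {F : FusionSystem S}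

/-- Restriction of an automorphism to an invariant subgroup. -/
theorem exists_restrict {R P : Subgroup Ω} (hRS : R ≤ S) (hPR : P ≤ R) {G : MulAut R}
    (hG : G ∈ F.autGroup R) (hm : ∀ x ∈ P, autMap G x ∈ P) :
    ∃ α ∈ F.autGroup P, (∀ x ∈ P, autMap α x = autMap G x) ∧ orderOf α ∣ orderOf G := by
  haveI := finite_of_le hRS
  have hst := mem_setStab_of_mapsTo hPR hm
  refine ⟨stabRes hPR ⟨G, hst⟩, mem_autGroup_of_isMap ((((mem_autGroup_iff hRS).1 hG).mono hPR).congr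
    fun x hx => autMap_stabRes hPR _ hx), fun x hx => autMap_stabRes hPR _ hx, ?_⟩
  exact (orderOf_map_dvd _ _).trans (by rw [Subgroup.orderOf_mk])

/-- A map of `M` into itself extending an automorphism of order prime to `p` has a power doing the same. -/
theorem exists_pPrime_aut {p : ℕ} [Fact p.Prime] {M P : Subgroup Ω} {g : Ω → Ω} (hg : IsMap F M g)
    (hm : ∀ y ∈ M, g y ∈ M) (hPM : P ≤ M) {α : MulAut P} (hα : (orderOf α).Coprime p)
    (he : ∀ x ∈ P, g x = autMap α x) :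
    ∃ G ∈ F.autGroup M, (orderOf G).Coprime p ∧ (∀ x ∈ P, autMap G x = autMap α x) ∧
      ∃ k : ℕ, ∀ x ∈ M, autMap G x = g^[k] x := by
  haveI := finite_of_le hg.le
  haveI := finite_mulAut_of_le hg.le
  obtain ⟨k, b, hb, hgk, hper, hagree⟩ := exists_pPrime_power (p := p) hg hm
  obtain ⟨G, hG, hGe⟩ := (isIso_of_mapsTo hgk fun y hy => iterate_mem hm k hy).exists_aut
  refine ⟨G, hG, Nat.Coprime.coprime_dvd_left (orderOf_dvd_of_pow_eq_one (aut_ext fun y hy => by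
    rw [← autMap_pow G (fun z hz => (hGe z hz).symm) b hy, hper y hy, FusionSys.autMap_one hy])) hb,
    fun x hx => ?_, k, hGe⟩
  rw [hGe x (hPM hx), hagree x (hPM hx) _ hα (by
    rw [autMap_pow α he _ hx, pow_orderOf_eq_one, FusionSys.autMap_one hx]), he x hx]

/-- An automorphism fixing a subgroup pointwise and moving points by its elements is periodic of its order. -/
theorem pow_card_eq_one_of_moves {R Z : Subgroup Ω} (hRS : R ≤ S) (hZR : Z ≤ R) {δ : MulAut R}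
    (hδ : δ ∈ F.autGroup R) (hfix : ∀ z ∈ Z, autMap δ z = z)
    (hmv : ∀ r ∈ R, r⁻¹ * autMap δ r ∈ Z) : δ ^ Nat.card Z = 1 := by
  haveI := finite_of_le (hZR.trans hRS)
  refine aut_ext fun r hr => ?_
  have key : ∀ j : ℕ, autMap (δ ^ j) r = r * (r⁻¹ * autMap δ r) ^ j := by
    intro j
    induction j with
    | zero => rw [pow_zero, FusionSys.autMap_one hr, pow_zero, mul_one]
    | succ j ih =>
      have hzj := Z.pow_mem (hmv r hr) j
      rw [pow_succ', autMap_mul _ _ hr, ih, ((mem_autGroup_iff hRS).1 hδ).map_mul hr (hZR hzj),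
        hfix _ hzj, pow_succ', ← mul_assoc r, mul_inv_cancel_left]
  rw [key, show (r⁻¹ * autMap δ r) ^ Nat.card Z = 1 from
    congrArg Subtype.val (pow_card_eq_one' (x := (⟨_, hmv r hr⟩ : Z))), mul_one, FusionSys.autMap_one hr]

end Cfsg.Agent.Signalizer.EBal
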