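import Cfsg.Agent.Signalizer.EBal.Local
import Cfsg.Agent.H89.ResidualNormal
import Cfsg.Agent.H89.FStar.Basic

/-!
The normal subsystem of the normalizer system over `C_T(X)` inside `E`; automorphisms of order prime to `p` in
a generalized Fitting subsystem move points inside the group of the layer.
-/

set_option autoImplicit false
set_option linter.style.haveILetI false
set_option linter.unusedSectionVars false

namespace Cfsg.Agent.Signalizer.EBal

open Cfsg Cfsg.FusionSystem Cfsg.Agent.FusionSys Cfsg.Agent.H91.CentFocal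
open Cfsg.Agent.H89.Lift (isMap_subSys)
open Cfsg.FusionSystem (centralizerIn normalizerIn)

universe u

variable {Ω : Type u} [Group Ω] {S T X : Subgroup Ω} {F : FusionSystem S} {E : FusionSystem T} {p : ℕ}
variable [Finite S] [Fact p.Prime] {N : FusionSystem (normalizerIn S X)}

/-- A normal subsystem of `N` over `C_T(X)` lying in `E`. -/
theorem exists_local_normal (hS : IsPGroup p S) (hE : E.IsNormalIn F p) (hX : F.IsFullyNormalized X)
    (hN : F.IsNormalizerSystem X N) :
    ∃ M : FusionSystem (centralizerIn T X), M.IsNormalIn N p ∧ M.IsSubsystemOf E := by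
  haveI : Finite (normalizerIn S X) := finite_of_le normalizerIn_le
  have hs := local_setup hS hE hX hN
  have hwn := hs.isWeaklyNormal_D0
  have hUT : centralizerIn T X ≤ T := centralizerIn_le
  haveI := hs.finite_T
  have hM := H89.ResidualNormal.isNormalIn hs.hS hwn
    (S5140.isSaturated_residual (hs.hS.to_le hs.T_le) hwn.1) (fun _ => Set.Subset.rfl)
    (fun _ => Set.Subset.rfl)
  refine ⟨_, hM, fun P => (S5140.residual_sub P).trans ?_⟩
  let E' := FusionSys.subSys hs.base (fun P f => IsMap E P f) (fun _ _ _ h he => h.congr he)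
    (fun _ _ hP ha => isMap_conj E (hP.trans hUT) (hUT ha))
    (fun _ _ _ _ _ _ hm h1 h2 => h1.comp h2 hm)
    (fun _ _ _ g hf _ hgf h => by
      obtain ⟨g', hg', he⟩ := h.exists_inv
      rw [← hf.eq_imgSub] at hg'
      refine hg'.congr fun y hy => ?_
      obtain ⟨x, hx, rfl⟩ := hf.exists_preimage hy
      rw [hgf x hx, he x hx])
  have hgen : GenA.HasGens p N (centralizerIn T X) (hfam F E X) E' := fun Q α hQ hco hα => by
    refine isMap_subSys.2 ⟨hs.hasGens_base Q α hQ hco hα, ?_⟩
    obtain ⟨G, hG, -, hGQ⟩ := mem_hfam hS hE (cls_sup hS hE hX hN hQ) hα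
    exact ((hG.spec hE).2.2.mono (le_inf le_sup_left (hQ.1.trans hUT))).congr
      fun q hq => (hGQ q hq).symm
  intro φ hφ
  exact mem_hom_of_isMap (isMap_subSys.1 (hs.isMap_D0.1 (isMap_of_mem hφ) E' hgen)).2
    fun x => (homFun_coe φ x).symm

/-- In a generalized Fitting subsystem, a quasisimple subsystem lives over the group of the layer. -/
theorem le_layer_of_fitting {Q U : Subgroup Ω} {D : FusionSystem U} (h : H89.FStar.Ctx p F E Q)
    (hD : IsCentralProductOf (innerFusionSystem Q) E D) {V : Subgroup Ω} {C : FusionSystem V}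
    (hCs : C.hyperfocalSubgroup p = V) (hC : C.IsSubsystemOf D) : V ≤ T := by
  have hT := h.T_closed
  have hQS := h.Q_le
  have hVS : V ≤ S := (isMap_of_sub (h.isSubsystemOf hD) (isMap_of_sub hC (isMap_id C le_rfl))).le
  haveI : Finite Q := finite_of_le hQS
  obtain ⟨n, hn⟩ := IsPGroup.iff_card.1 (h.hS.to_le hQS)
  rw [← hCs]
  refine (Subgroup.closure_le _).2 ?_
  rintro _ ⟨P, α, x, hP, hα, rfl⟩
  haveI := finite_of_le (hP.trans hVS)
  haveI := finite_mulAut_of_le (hP.trans hVS)
  suffices hle : pResidual p (C.autGroup P) ≤ (H89.Gen.modGroup P T).comap (C.autGroup P).subtype by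
    have h1 := H89.Gen.mem_modGroup.1 (hle hα) x x.2
    rwa [autMap_coe] at h1
  refine Cores.pResidual_le fun β hβ => H89.Gen.mem_modGroup.2 fun y hy => ?_
  show y⁻¹ * autMap (β : MulAut P) y ∈ T
  obtain ⟨q, hq, R, g, hR, hg, hgE, hgQ, hPR, hfe⟩ :=
    (h.isMap_iff hD).1 (isMap_of_sub hC ((mem_autGroup_iff hP).1 β.2))
  have hstep : ∀ z ∈ P, (q * z * q⁻¹)⁻¹ * autMap (β : MulAut P) z ∈ T := by
    intro z hz
    obtain ⟨a, ha, r, hr, rfl⟩ := h.exists_mul_sup hR (hPR hz)
    have hgr : g r ∈ T := hgE.mem_S hr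
    rw [hfe _ hz, hg.map_mul (Subgroup.mem_sup_right ha) (Subgroup.mem_sup_left hr), hgQ a ha,
      conjMap_apply, show (q * (a * r) * q⁻¹)⁻¹ * (q * (a * g r) * q⁻¹) = q * (r⁻¹ * g r) * q⁻¹ by group]
    exact conj_mem_closed hT (hQS hq) (T.mul_mem (T.inv_mem (hR hr)) hgr)
  have hiter : ∀ (j : ℕ), ∀ z ∈ P, (q ^ j * z * (q ^ j)⁻¹)⁻¹ * autMap ((β : MulAut P) ^ j) z ∈ T := by
    intro j
    induction j with
    | zero => intro z hz; rw [pow_zero, pow_zero, FusionSys.autMap_one hz]; simp [T.one_mem]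
    | succ j ih =>
      intro z hz
      have hw := autMap_mem ((β : MulAut P) ^ j) hz
      have h1 := conj_mem_closed hT (hQS hq) (ih z hz)
      have h2 := T.mul_mem h1 (hstep _ hw)
      rw [pow_succ' (β : MulAut P), autMap_mul _ _ hz]
      convert h2 using 1
      rw [pow_succ']
      group
  obtain ⟨c, hc⟩ := exists_pow_eq_self_of_coprime (x := (β : MulAut P))
    ((show (orderOf (β : MulAut P)).Coprime p by rwa [Subgroup.orderOf_coe]).pow_right n).symm
  have hm : (β : MulAut P) ^ p ^ n ∈ H89.Gen.modGroup P T := H89.Gen.mem_modGroup.2 fun z hz => by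
    have h1 := hiter (p ^ n) z hz
    rwa [show q ^ p ^ n = 1 from hn ▸ congrArg Subtype.val (pow_card_eq_one' (x := (⟨q, hq⟩ : Q))),
      one_mul, inv_one, mul_one] at h1
  rw [← hc]
  exact H89.Gen.mem_modGroup.1 (pow_mem hm c) y hy

end Cfsg.Agent.Signalizer.EBal
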