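import Cfsg.Agent.Signalizer.EBal.Iff
import Cfsg.Agent.Signalizer.FusComp.ModExtendMoved

/-!
A good automorphism of order prime to `p` of a fully normalized member of the class extends, trivially modulo
`T`, to the preimage in `N_S(P)` of any subgroup of `Aut_S(P)` it normalizes.
-/

set_option autoImplicit false
set_option linter.style.haveILetI false
set_option linter.unusedSectionVars false
set_option maxHeartbeats 1000000

namespace Cfsg.Agent.Signalizer.EBal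

open Cfsg Cfsg.FusionSystem Cfsg.Agent.FusionSys Cfsg.Agent.H91.CentFocal
open Cfsg.Agent.H91.CentSE (Ctr)
open Cfsg.Agent.H89 (mem_of_stronglyClosed card_lt_card_of_lt)
open Cfsg.Agent.H89.Lift (nSub mem_nSub nSub_le le_nSub)
open Cfsg.Agent.H89.Gen (modGroup mem_modGroup modGroup_conj)
open Cfsg.Agent.H89.WeakResidual (conj_mem_autGroup)
open Cfsg.Agent.Signalizer.FusComp (fixGroup exists_mod_ext_moved)
open Cfsg.FusionSystem (centralizerIn normalizerIn)

universe u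

variable {Ω : Type u} [Group Ω] {S T : Subgroup Ω} {F : FusionSystem S} {E : FusionSystem T} {p : ℕ}
variable [Finite S] [Fact p.Prime]

/-- The extension property at `P`. -/
def TMAt (p : ℕ) (F : FusionSystem S) (E : FusionSystem T) (P : Subgroup Ω) : Prop :=
  ∀ (Y : Subgroup (MulAut P)), Inn P ≤ Y → Y ≤ autInducedBy S P → ∀ α : MulAut P, Good F E P α →
    (orderOf α).Coprime p → (∀ y ∈ Y, α * y * α⁻¹ ∈ Y) →
    ∃ G ∈ F.autGroup (nSub S P Y), (orderOf G).Coprime p ∧ (∀ x ∈ P, autMap G x = autMap α x) ∧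
      ∀ m ∈ nSub S P Y, m⁻¹ * autMap G m ∈ T

theorem normalizerIn_le_plus (hT : F.StronglyClosed T) {P : Subgroup Ω} (hP : P ≤ S) :
    normalizerIn S P ≤ normalizerIn S (plus T P) := fun n hn => by
  haveI := finite_of_le (plus_le_S hT.1 hP)
  refine ⟨hn.1, mem_normalizer_of_maps fun y hy => ?_⟩
  have h := (isMap_conj F (plus_le_S hT.1 hP) hn.1).mapsTo_sup (A := P) (B := wing T P) (C := plus T P)
    (fun x hx => le_plus P (by
      rw [conjMap_apply]; exact (Subgroup.mem_normalizer_iff.1 hn.2 x).1 hx))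
    (fun w hw => by
      obtain ⟨⟨hwT, hwc⟩, hwn⟩ := mem_wing.1 hw
      rw [conjMap_apply]
      refine Subgroup.mem_sup_right (mem_wing.2 ⟨⟨conj_mem_closed hT hn.1 hwT, fun q hq => ?_⟩,
        mul_mem (mul_mem hn.2 hwn) (Subgroup.inv_mem _ hn.2)⟩)
      have hq' : n⁻¹ * q * n ∈ P ⊓ T := by
        refine ⟨(Subgroup.mem_normalizer_iff''.1 hn.2 q).1 hq.1, ?_⟩
        have := conj_mem_closed hT (S.inv_mem hn.1) hq.2
        rwa [inv_inv] at this
      calc q * (n * w * n⁻¹) = n * ((n⁻¹ * q * n) * w) * n⁻¹ := by group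
        _ = n * (w * (n⁻¹ * q * n)) * n⁻¹ := by rw [hwc _ hq']
        _ = _ := by group) hy
  rwa [conjMap_apply] at h

/-- Extensions restrict to the preimage of a normalized group of automorphisms. -/
theorem restrict_nSub {P N : Subgroup Ω} (hNS : N ≤ S) (hPN : P ≤ N) {Y : Subgroup (MulAut P)}
    (hYI : Inn P ≤ Y)
    (hMN : nSub S P Y ≤ N) {α : MulAut P} (hαY : ∀ y ∈ Y, α * y * α⁻¹ ∈ Y) {G : MulAut N}
    (hG : G ∈ F.autGroup N) (hco : (orderOf G).Coprime p) (he : ∀ x ∈ P, autMap G x = autMap α x)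
    (hmod : ∀ m ∈ N, m⁻¹ * autMap G m ∈ T) :
    ∃ G' ∈ F.autGroup (nSub S P Y), (orderOf G').Coprime p ∧ (∀ x ∈ P, autMap G' x = autMap α x) ∧
      (∀ m ∈ nSub S P Y, m⁻¹ * autMap G' m ∈ T) := by
  haveI := finite_of_le hNS
  haveI := finite_of_le hPN
  have hGm := (mem_autGroup_iff hNS).1 hG
  have hPi : IsIso F P P (autMap G) :=
    isIso_of_mapsTo (hGm.mono hPN) fun x hx => he x hx ▸ autMap_mem α hx
  obtain ⟨G', hG', hG'e, hG'o⟩ := exists_restrict hNS hMN hG fun m hm => by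
    obtain ⟨hmn, hmY⟩ := mem_nSub.1 hm
    have hmN := hMN hm
    have hGn : autMap G m ∈ normalizerIn S P :=
      hPi.mem_normalizerIn_of_extends hGm hPN (fun _ _ => rfl) hmN hmn.2
    refine mem_nSub.2 ⟨hGn, ?_⟩
    rw [show conjAut hGn.2 = α * conjAut hmn.2 * α⁻¹ from aut_ext fun y hy => ?_]
    · exact hαY _ hmY
    obtain ⟨x, hx, rfl⟩ := hPi.exists_preimage hy
    have hx' : m * x * m⁻¹ ∈ P := (Subgroup.mem_normalizer_iff.1 hmn.2 x).1 hx
    rw [autMap_conjAut hGn.2 hy, conjMap_apply, ← hGm.map_conj hmN (hPN hx), he _ hx',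
      autMap_mul _ _ hy, autMap_mul _ _ (autMap_mem _ hy), he x hx, S5114.inv_autMap_apply α hx,
      autMap_conjAut hmn.2 hx, conjMap_apply]
  exact ⟨G', hG', hco.coprime_dvd_left hG'o, fun x hx => by
    rcases em (x ∈ nSub S P Y) with hm | hm
    · rw [hG'e x hm, he x hx]
    · exact absurd (le_nSub (hPN.trans hNS) hYI hx) hm,
    fun m hm => hG'e m hm ▸ hmod m (hMN hm)⟩

theorem isFullyNormalized_map (hS : IsPGroup p S) {P P' : Subgroup Ω} (hn : F.IsFullyNormalized P)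
    {ψ : Ω → Ω} (hψ : IsMap F (normalizerIn S P) ψ) (hi : IsIso F P P' ψ) :
    F.IsFullyNormalized P' ∧ normalizerIn S P' = imgSub ψ (normalizerIn S P) := by
  have hsub : imgSub ψ (normalizerIn S P) ≤ normalizerIn S P' := fun y hy => by
    obtain ⟨x, hx, rfl⟩ := hψ.mem_imgSub.1 hy
    exact hi.mem_normalizerIn_of_extends hψ (le_normalizerIn_self hn.1) (fun _ _ => rfl) hx hx.2
  haveI := finite_of_le (normalizerIn_le : normalizerIn S P' ≤ S)
  have h1 : Nat.card (normalizerIn S P) ≤ Nat.card (normalizerIn S P') :=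
    hψ.isIso.card_eq ▸ Subgroup.card_le_of_le hsub
  refine ⟨⟨hi.target_le, fun Q hQ => (hn.2 Q (isConj_trans hi.isConj hQ)).trans h1⟩, ?_⟩
  refine (Subgroup.eq_of_le_of_card_ge hsub ?_).symm
  rw [← hψ.isIso.card_eq]
  exact hn.2 P' hi.isConj

/-- The extension property passes back along a map of the normalizer. -/
theorem tm_transport (hS : IsPGroup p S) (hE : E.IsNormalIn F p) {P P' : Subgroup Ω}
    (hn : F.IsFullyNormalized P) {ψ : Ω → Ω} (hψ : IsMap F (normalizerIn S P) ψ) (hi : IsIso F P P' ψ)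
    (h : TMAt p F E P') : TMAt p F E P := by
  have hT := hE.1.2.2.2.1
  intro Y hYI hYS α hα hco hαY
  obtain ⟨-, heq⟩ := isFullyNormalized_map hS hn hψ hi
  have hPN := le_normalizerIn_self (S := S) hn.1
  have hconj : ∀ {m : Ω} (hm : m ∈ normalizerIn S P) (hm' : ψ m ∈ Subgroup.normalizer (P' : Set Ω)),
      hi.autEquiv (conjAut hm.2) = conjAut hm' := fun {m} hm hm' => aut_ext fun y hy => by
    obtain ⟨x, hx, rfl⟩ := hi.exists_preimage hy
    rw [hi.autMap_autEquiv _ hx, autMap_conjAut _ hx, autMap_conjAut hm' hy, conjMap_apply, conjMap_apply,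
      hψ.map_conj hm (hPN hx)]
  have hnm : ∀ {m : Ω}, m ∈ normalizerIn S P → ψ m ∈ normalizerIn S P' := fun {m} hm =>
    heq.ge (hψ.mem_imgSub.2 ⟨m, hm, rfl⟩)
  set Y' := Y.map hi.autEquiv.toMonoidHom with hY'
  have hYI' : Inn P' ≤ Y' := by
    rw [inn_eq_autInducedBy_self]
    intro c hc
    obtain ⟨y, hy, hyn, rfl⟩ := mem_autInducedBy.1 hc
    obtain ⟨x, hx, rfl⟩ := hi.exists_preimage hy
    refine ⟨conjAut (hPN hx).2, hYI ?_, hconj (hPN hx) hyn⟩
    rw [inn_eq_autInducedBy_self]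
    exact mem_autInducedBy.2 ⟨x, hx, _, rfl⟩
  have hYS' : Y' ≤ autInducedBy S P' := by
    rintro _ ⟨y, hy, rfl⟩
    obtain ⟨m, hm, hmn, rfl⟩ := mem_autInducedBy.1 (hYS hy)
    exact mem_autInducedBy.2 ⟨ψ m, (hnm ⟨hm, hmn⟩).1, (hnm ⟨hm, hmn⟩).2,
      hconj (m := m) ⟨hm, hmn⟩ (hnm ⟨hm, hmn⟩).2⟩
  obtain ⟨G', hG', hG'co, hG'e, hG'm⟩ := h Y' hYI' hYS' (hi.autEquiv α) (hα.transport hE hi)
    (by rwa [orderOf_autEquiv]) (by
      rintro _ ⟨y, hy, rfl⟩
      exact ⟨α * y * α⁻¹, hαY y hy, by rw [map_mul, map_mul, map_inv]; rfl⟩)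
  have hMN : nSub S P Y ≤ normalizerIn S P := fun m hm => (mem_nSub.1 hm).1
  have himg : imgSub ψ (nSub S P Y) = nSub S P' Y' := by
    refine le_antisymm (fun y hy => ?_) fun y hy => ?_
    · obtain ⟨m, hm, rfl⟩ := (hψ.mono hMN).mem_imgSub.1 hy
      obtain ⟨hmn, hmY⟩ := mem_nSub.1 hm
      exact mem_nSub.2 ⟨hnm hmn, conjAut hmn.2, hmY, hconj hmn _⟩
    · obtain ⟨hyn, hyY⟩ := mem_nSub.1 hy
      obtain ⟨m, hm, rfl⟩ := hψ.mem_imgSub.1 (heq.le hyn)
      obtain ⟨c, hc, hce⟩ := hyY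
      refine (hψ.mono hMN).mem_imgSub.2 ⟨m, mem_nSub.2 ⟨hm, ?_⟩, rfl⟩
      rwa [show conjAut hm.2 = c from hi.autEquiv.injective ((hconj hm hyn.2).trans hce.symm)]
  have hiM : IsIso F (nSub S P Y) (nSub S P' Y') ψ := himg ▸ (hψ.mono hMN).isIso
  obtain ⟨v, hv, hvψ, -⟩ := hiM.exists_symm
  refine ⟨hv.autEquiv G', hv.autEquiv_mem_autGroup hG', (orderOf_autEquiv hv G').symm ▸ hG'co,
    fun x hx => ?_, fun m hm => ?_⟩
  · have hxM : x ∈ nSub S P Y := le_nSub hn.1 hYI hx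
    have h1 := hv.autMap_autEquiv G' (hiM.mem hxM)
    rw [hvψ x hxM, hG'e _ (hi.mem hx), hi.autMap_autEquiv α hx,
      hvψ _ (le_nSub hn.1 hYI (autMap_mem α hx))] at h1
    exact h1
  · have h1 := hv.autMap_autEquiv G' (hiM.mem hm)
    rw [hvψ m hm] at h1
    have hG'S := autMap_mem G' (hiM.mem hm)
    have h2 := mem_of_stronglyClosed hT hv.isMap (mul_mem (Subgroup.inv_mem _ (hiM.mem hm)) hG'S)
      (hG'm _ (hiM.mem hm))
    rw [hv.isMap.map_mul (Subgroup.inv_mem _ (hiM.mem hm)) hG'S, hv.isMap.map_inv (hiM.mem hm), hvψ m hm, ← h1] at h2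
    exact h2

/-- The base case, with `P ∩ T` fully normalized. -/
theorem tm_base (hS : IsPGroup p S) (hE : E.IsNormalIn F p) {P : Subgroup Ω} (hn : F.IsFullyNormalized P)
    (hb : Ctr F T (P ⊓ T)) (hQn : F.IsFullyNormalized (P ⊓ T)) : TMAt p F E P := by
  have hT := hE.1.2.2.2.1
  intro Y hYI hYS α hα hco hαY
  obtain ⟨hαF, hαm, hαE⟩ := hα.spec hE
  have hPS := hn.1
  set Q := P ⊓ T with hQ
  have hQT : Q ≤ T := inf_le_right
  haveI := finite_of_le hPS
  haveI := finite_of_le hQn.1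
  haveI : Finite T := finite_of_le hT.1
  haveI := finite_mulAut_of_le hPS
  have hαM := (mem_autGroup_iff hPS).1 hαF
  set Sg := F.autGroup P ⊓ modGroup P Q ⊓ fixGroup P T with hSg
  have hSgS : Sg ≤ autInducedBy S P := stab_le hS hE hn
  have hSgmem : ∀ {d : MulAut P}, d ∈ Sg → d ∈ F.autGroup P ∧ (∀ z ∈ Q, autMap d z = z) ∧
      ∀ y ∈ P, y⁻¹ * autMap d y ∈ Q := fun {d} hd => ⟨hd.1.1, fun z hz => hd.2 z hz.1 hz.2, hd.1.2⟩
  have hcen : ∀ {d : MulAut P}, d ∈ Sg → ∀ y ∈ P, ∀ z ∈ Q,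
      z * (y⁻¹ * autMap d y) = (y⁻¹ * autMap d y) * z := by
    intro d hd y hy z hz
    obtain ⟨hdF, hdf, -⟩ := hSgmem hd
    have hz' : y * z * y⁻¹ ∈ Q :=
      ⟨P.mul_mem (P.mul_mem hy hz.1) (P.inv_mem hy), conj_mem_closed hT (hPS hy) hz.2⟩
    have h1 := ((mem_autGroup_iff hPS).1 hdF).map_conj hy hz.1
    rw [hdf _ hz', hdf z hz] at h1
    calc z * (y⁻¹ * autMap d y) = y⁻¹ * (y * z * y⁻¹) * autMap d y := by group
      _ = _ := by rw [h1]; group
  have hab : ∀ a ∈ Sg, ∀ b ∈ Sg, a * b = b * a := by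
    intro a ha b hb'
    obtain ⟨haF, haf, ham⟩ := hSgmem ha
    obtain ⟨hbF, hbf, hbm⟩ := hSgmem hb'
    refine aut_ext fun y hy => ?_
    have hc := hcen hb' y hy _ (ham y hy)
    have hbz := hbm y hy
    have haz := ham y hy
    obtain ⟨za, hza⟩ : ∃ z, y⁻¹ * autMap a y = z := ⟨_, rfl⟩
    obtain ⟨zb, hzb⟩ : ∃ z, y⁻¹ * autMap b y = z := ⟨_, rfl⟩
    rw [hza] at hc haz
    rw [hzb] at hc hbz
    have ea : autMap a y = y * za := by rw [← hza]; group
    have eb : autMap b y = y * zb := by rw [← hzb]; group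
    rw [autMap_mul _ _ hy, autMap_mul _ _ hy, eb, ea,
      ((mem_autGroup_iff hPS).1 haF).map_mul hy hbz.1, haf zb hbz,
      ((mem_autGroup_iff hPS).1 hbF).map_mul hy haz.1, hbf za haz, ea, eb,
      mul_assoc, mul_assoc, hc]
  have hSgp : IsPGroup p Sg := (isPGroup_autInducedBy hS P).to_le hSgS
  have hSgα : ∀ a ∈ Sg, α⁻¹ * a * α ∈ Sg := by
    intro a ha
    obtain ⟨⟨haF, ham⟩, haf⟩ := ha
    have hc : α⁻¹ ∈ F.autGroup P := Subgroup.inv_mem _ hαF
    have hcm := (mem_autGroup_iff hPS).1 hc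
    refine ⟨⟨mul_mem (mul_mem hc haF) hαF, ?_⟩, fun y hy hyT => ?_⟩
    · have := modGroup_conj hPS hc (X := Q)
        (fun y hy hyQ => ⟨autMap_mem _ hy, mem_of_stronglyClosed hT hcm hy hyQ.2⟩) ham
      rwa [inv_inv] at this
    · have h1 : autMap α y ∈ T := mem_of_stronglyClosed hT hαM hy hyT
      rw [autMap_mul _ _ hy, autMap_mul _ _ (autMap_mem _ hy)]
      have e : autMap a (autMap α y) = autMap α y := haf _ (autMap_mem _ hy) h1
      rw [e, S5114.inv_autMap_apply α hy]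
  have hSgα' : ∀ a ∈ Sg, α * a * α⁻¹ ∈ Sg := by
    intro a ha
    obtain ⟨⟨haF, ham⟩, haf⟩ := ha
    refine ⟨⟨mul_mem (mul_mem hαF haF) (Subgroup.inv_mem _ hαF), modGroup_conj hPS hαF
      (fun y hy hyQ => ⟨autMap_mem _ hy, mem_of_stronglyClosed hT hαM hy hyQ.2⟩) ham⟩, fun y hy hyT => ?_⟩
    have h1 : autMap α⁻¹ y ∈ T :=
      mem_of_stronglyClosed hT ((mem_autGroup_iff hPS).1 (Subgroup.inv_mem _ hαF)) hy hyT
    rw [autMap_mul _ _ hy, autMap_mul _ _ (autMap_mem _ hy)]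
    have e : autMap a (autMap α⁻¹ y) = autMap α⁻¹ y := haf _ (autMap_mem _ hy) h1
    rw [e, autMap_inv_apply _ hy]
  set Y' := Y ⊔ Sg with hY'
  have hY'I : Inn P ≤ Y' := hYI.trans le_sup_left
  have hY'S : Y' ≤ autInducedBy S P := sup_le hYS hSgS
  have hαY' : ∀ y ∈ Y', α * y * α⁻¹ ∈ Y' := fun y hy => by
    have hle : Y' ≤ Y'.comap (MulAut.conj α).toMonoidHom :=
      sup_le (fun z hz => Subgroup.mem_sup_left (hαY z hz))
        fun z hz => Subgroup.mem_sup_right (hSgα' z hz)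
    exact hle hy
  set M' := nSub S P Y' with hM'
  have hPM' : P ≤ M' := le_nSub hPS hY'I
  have hM'n : M' ≤ normalizerIn S P := fun m hm => (mem_nSub.1 hm).1
  have hM'Q : ∀ {m : Ω}, m ∈ M' → m ∈ Subgroup.normalizer (Q : Set Ω) := fun {m} hm =>
    mem_normalizer_of_maps fun q hq => ⟨(Subgroup.mem_normalizer_iff.1 (hM'n hm).2 q).1 hq.1,
      conj_mem_closed hT (hM'n hm).1 hq.2⟩
  obtain ⟨x, hx, hxe⟩ := (isIso_of_mapsTo hαE fun y hy =>
    ⟨autMap_mem α hy.1, mem_of_stronglyClosed hT hαM hy.1 hy.2⟩).exists_aut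
  have hxco : (orderOf x).Coprime p := by
    obtain ⟨r, -, hre, hro⟩ := exists_restrict hPS (inf_le_left : Q ≤ P) hαF fun y hy =>
      ⟨autMap_mem α hy.1, mem_of_stronglyClosed hT hαM hy.1 hy.2⟩
    rw [show x = r from aut_ext fun y hy => by rw [hxe y hy, hre y hy]]
    exact hco.coprime_dvd_left hro
  set YQ := autInducedBy M' Q with hYQ
  have hcc : ∀ {m : Ω} (hm : m ∈ M'), ∃ m', ∃ hm' : m' ∈ M',
      x * conjAut (hM'Q hm) * x⁻¹ = conjAut (hM'Q hm') := by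
    intro m hm
    obtain ⟨hmn, hmY⟩ := mem_nSub.1 hm
    obtain ⟨s, hs, hsn, hse⟩ := mem_autInducedBy.1 (hY'S (hαY' _ hmY))
    have hsM : s ∈ M' := mem_nSub.2 ⟨⟨hs, hsn⟩, hse ▸ hαY' _ hmY⟩
    refine ⟨s, hsM, aut_ext fun y hy => ?_⟩
    have hy' := autMap_mem x⁻¹ hy
    have hxy : autMap α⁻¹ y = autMap x⁻¹ y := by
      conv_lhs => rw [← autMap_inv_apply x hy, hxe _ hy']
      exact S5114.inv_autMap_apply α hy'.1
    have h1 := congrArg (fun a => autMap a y) hse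
    rw [autMap_conjAut hsn hy.1, autMap_mul _ _ hy.1, autMap_mul _ _ (autMap_mem _ hy.1)] at h1
    rw [autMap_conjAut (hM'Q hsM) hy, autMap_mul _ _ hy, autMap_mul _ _ (autMap_mem _ hy),
      hxe _ (autMap_mem _ hy'), autMap_conjAut (hM'Q hm) hy', conjMap_apply]
    rw [autMap_conjAut hmn.2 (autMap_mem α⁻¹ hy.1), hxy, conjMap_apply] at h1
    exact h1
  have hxY : ∀ y ∈ YQ, x * y * x⁻¹ ∈ YQ := fun y hy => by
    obtain ⟨m, hm, hmn, rfl⟩ := mem_autInducedBy.1 hy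
    obtain ⟨s, hs, hse⟩ := hcc hm
    exact mem_autInducedBy.2 ⟨s, hs, _, hse⟩
  have hxT : ∀ y ∈ YQ, y⁻¹ * (x * y * x⁻¹) ∈ autInducedBy T Q := fun y hy => by
    have hyS : y ∈ autInducedBy S Q := autInducedBy_mono (nSub_le : M' ≤ S) hy
    have hyF : y ∈ F.autGroup Q := autInducedBy_le_autGroup F hQn.1 hyS
    refine H89.Gen.inf_autInducedBy_le hS hE.1 hQT hQn ⟨?_, mul_mem (Subgroup.inv_mem _ hyS)
      (autInducedBy_mono (nSub_le : M' ≤ S) (hxY y hy))⟩
    have h1 := mul_mem (conj_mem_autGroup hE.1.2.2 hQT (Subgroup.inv_mem _ hyF) hx) (Subgroup.inv_mem _ hx)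
    rw [show y⁻¹ * (x * y * x⁻¹) = y⁻¹ * x * y⁻¹⁻¹ * x⁻¹ by group]
    exact h1
  set N := nSub S Q YQ with hN
  obtain ⟨G₀, hG₀, hG₀co, hG₀e, hG₀m⟩ := exists_mod_ext_moved hS hE hQT hQn
    (Y := YQ) (by rw [inn_eq_autInducedBy_self]; exact autInducedBy_mono (inf_le_left.trans hPM'))
    (autInducedBy_mono nSub_le) hx hxco hxY hxT
  have hNS : N ≤ S := nSub_le
  haveI := finite_of_le hNS
  have hM'N : M' ≤ N := fun m hm =>
    mem_nSub.2 ⟨⟨(hM'n hm).1, hM'Q hm⟩, mem_autInducedBy.2 ⟨m, hm, hM'Q hm, rfl⟩⟩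
  have hPN := hPM'.trans hM'N
  have hG₀M := (mem_autGroup_iff hNS).1 hG₀
  -- the restriction to `P`
  have hz : ∀ y ∈ P, (autMap α y)⁻¹ * autMap G₀ y ∈ Q := by
    intro y hy
    refine hb Q (isConj_refl F hQn.1) (FusionSys.mem_centralizerIn.2 ⟨?_, fun w hw => ?_⟩)
    · have h1 := T.mul_mem (T.inv_mem (hαm y hy)) (hG₀m y (hPN hy))
      convert h1 using 1
      group
    obtain ⟨v, hv, rfl⟩ : ∃ v ∈ Q, autMap x v = w := ⟨_, autMap_mem x⁻¹ hw, autMap_inv_apply x hw⟩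
    have hv' : y * v * y⁻¹ ∈ Q :=
      ⟨P.mul_mem (P.mul_mem hy hv.1) (P.inv_mem hy), conj_mem_closed hT (hPS hy) hv.2⟩
    have h1 := hG₀M.map_conj (hPN hy) (hPN hv.1)
    rw [hG₀e _ hv', hxe _ hv', hG₀e v hv, hαM.map_conj hy hv.1, hxe v hv] at h1
    rw [hxe v hv]
    calc autMap α v * ((autMap α y)⁻¹ * autMap G₀ y)
        = (autMap α y)⁻¹ * (autMap α y * autMap α v * (autMap α y)⁻¹) * autMap G₀ y := by group
      _ = _ := by rw [h1]; group
  obtain ⟨β, hβ, hβe, hβo⟩ := exists_restrict hNS hPN hG₀ fun y hy => by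
    have := P.mul_mem (autMap_mem α hy) (hz y hy).1
    rwa [mul_inv_cancel_left] at this
  have hβco := hG₀co.coprime_dvd_left hβo
  have hk : α⁻¹ * β ∈ Sg := by
    have hαi := (mem_autGroup_iff hPS).1 (Subgroup.inv_mem _ hαF)
    refine ⟨⟨mul_mem (Subgroup.inv_mem _ hαF) hβ, fun y hy => ?_⟩, fun y hy hyT => ?_⟩
    · rw [autMap_mul _ _ hy, hβe y hy,
        show autMap G₀ y = autMap α y * ((autMap α y)⁻¹ * autMap G₀ y) by group,
        hαi.map_mul (autMap_mem α hy) (hz y hy).1, S5114.inv_autMap_apply α hy, inv_mul_cancel_left]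
      exact ⟨autMap_mem _ (hz y hy).1, mem_of_stronglyClosed hT hαi (hz y hy).1 (hz y hy).2⟩
    · rw [autMap_mul _ _ hy, hβe y hy, hG₀e y ⟨hy, hyT⟩, hxe y ⟨hy, hyT⟩, S5114.inv_autMap_apply α hy]
  obtain ⟨σ, hσ, hσe⟩ := exists_conj_of_mod hSgp hab hSgα hco hβco hk
  obtain ⟨a, ha, han, hae⟩ := mem_autInducedBy.1 (hSgS hσ)
  have haM : a ∈ M' := mem_nSub.2 ⟨⟨ha, han⟩, hae ▸ Subgroup.mem_sup_right hσ⟩
  have haN : a ∈ N := hM'N haM
  have haNn : a ∈ Subgroup.normalizer (N : Set Ω) := Subgroup.le_normalizer haN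
  set c : MulAut N := conjAut haNn with hc
  have hcF : c ∈ F.autGroup N := conjAut_mem_autGroup F hNS ⟨ha, haNn⟩
  have hci : ∀ y ∈ N, autMap c⁻¹ y = a⁻¹ * y * a := fun y hy => by
    have hy' : a⁻¹ * y * a ∈ N := N.mul_mem (N.mul_mem (N.inv_mem haN) hy) haN
    have h1 : autMap c (a⁻¹ * y * a) = y := by rw [hc, autMap_conjAut haNn hy', conjMap_apply]; group
    conv_lhs => rw [← h1]
    exact S5114.inv_autMap_apply c hy'
  refine restrict_nSub hNS hPN hYI (fun m hm => hM'N ?_) hαY (mul_mem (mul_mem (Subgroup.inv_mem _ hcF) hG₀) hcF)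
    (by
      have : orderOf (c⁻¹ * G₀ * c) = orderOf G₀ := by
        simpa using MulEquiv.orderOf_eq (MulAut.conj c⁻¹) G₀
      rwa [this]) (fun y hy => ?_) fun y hy => ?_
  · obtain ⟨hmn, hmY⟩ := mem_nSub.1 hm
    exact mem_nSub.2 ⟨hmn, Subgroup.mem_sup_left hmY⟩
  · have hy' : a * y * a⁻¹ ∈ P := (Subgroup.mem_normalizer_iff.1 han y).1 hy
    have h1 := congrArg (fun e => autMap e (a * y * a⁻¹)) hσe
    have hσy : autMap σ⁻¹ (a * y * a⁻¹) = y := by
      conv_lhs => rw [← conjMap_apply a y, ← autMap_conjAut han hy, ← hae]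
      exact S5114.inv_autMap_apply σ hy
    rw [autMap_mul _ _ hy', autMap_mul _ _ (autMap_mem _ hy'), hσy, hae,
      autMap_conjAut han (autMap_mem α hy), conjMap_apply, hβe _ hy'] at h1
    rw [autMap_mul _ _ (hPN hy), hc, autMap_conjAut haNn (hPN hy), conjMap_apply,
      autMap_mul _ _ (hPN hy'), ← hc, hci _ (autMap_mem G₀ (hPN hy')), ← h1]
    group
  · have hy' : a * y * a⁻¹ ∈ N := N.mul_mem (N.mul_mem haN hy) (N.inv_mem haN)
    rw [autMap_mul _ _ hy, hc, autMap_conjAut haNn hy, conjMap_apply, autMap_mul _ _ hy', ← hc,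
      hci _ (autMap_mem G₀ hy')]
    have h1 := conj_mem_closed hT (S.inv_mem ha) (hG₀m _ hy')
    convert h1 using 1
    group

/-- The step, with the enlargement fully normalized. -/
theorem tm_step (hS : IsPGroup p S) (hE : E.IsNormalIn F p) {P : Subgroup Ω} (hn : F.IsFullyNormalized P)
    (hP : Cls F T P) (hnb : ¬ Ctr F T (P ⊓ T)) (ih : TMAt p F E (plus T P)) : TMAt p F E P := by
  have hF := hE.1.2.1
  have hT := hE.1.2.2.2.1
  intro Y hYI hYS α hα hco hαY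
  have hPS := hn.1
  haveI := finite_of_le hPS
  have hαi : IsIso F P P (autMap α) := isIso_autMap hPS (hα.spec hE).1
  set M := nSub S P Y with hM
  set L := plus T P with hL
  have hLS : L ≤ S := plus_le_S hT.1 hPS
  have hMn : M ≤ normalizerIn S P := fun m hm => (mem_nSub.1 hm).1
  set N := M ⊔ L with hN
  have hNn : N ≤ normalizerIn S P :=
    sup_le hMn (le_inf hLS (plus_le_normalizer P))
  have hNS : N ≤ S := hNn.trans normalizerIn_le
  haveI := finite_of_le hNS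
  have hPN : P ≤ N := (le_plus P).trans le_sup_right
  have hMext : ∀ m ∈ M, InExt S P (autMap α) m := fun m hm => by
    obtain ⟨hmn, hmY⟩ := mem_nSub.1 hm
    obtain ⟨s, hs, hsn, hse⟩ := mem_autInducedBy.1 (hYS (hαY _ hmY))
    refine ⟨hmn.1, hmn.2, s, hs, fun y hy => ?_⟩
    have h1 := congrArg (fun a => autMap a (autMap α y)) hse
    rw [autMap_mul _ _ (autMap_mem α hy), autMap_mul _ _ (autMap_mem _ (autMap_mem α hy)),
      S5114.inv_autMap_apply α hy, autMap_conjAut hmn.2 hy, autMap_conjAut hsn (autMap_mem α hy),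
      conjMap_apply, conjMap_apply] at h1
    exact h1
  obtain ⟨g, hg, hge⟩ := receptive_extend (receptive_of_isFullyNormalized hS hF hn) hαi (N := N)
    (inExt_sup hαi.isMap hMext (inExt_sup hαi.isMap (fun y hy => hαi.isMap.inExt_of_mem hy)
      fun w hw => wing_inExt hS hE hαi hn hw))
  replace hg : IsMap F N g := hg.mono le_sup_left
  have hgM : ∀ m ∈ M, g m ∈ M := fun m hm => by
    obtain ⟨hmn, hmY⟩ := mem_nSub.1 hm
    have hmN : m ∈ N := Subgroup.mem_sup_left hm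
    have hgn : g m ∈ normalizerIn S P := hαi.mem_normalizerIn_of_extends hg hPN hge hmN hmn.2
    refine mem_nSub.2 ⟨hgn, ?_⟩
    rw [show conjAut hgn.2 = α * conjAut hmn.2 * α⁻¹ from aut_ext fun y hy => ?_]
    · exact hαY _ hmY
    obtain ⟨x, hx, rfl⟩ := hαi.exists_preimage hy
    have hx' : m * x * m⁻¹ ∈ P := (Subgroup.mem_normalizer_iff.1 hmn.2 x).1 hx
    rw [autMap_conjAut hgn.2 hy, conjMap_apply, ← hge x hx, ← hg.map_conj hmN (hPN hx), hge _ hx',
      hge x hx, autMap_mul _ _ hy, autMap_mul _ _ (autMap_mem _ hy), S5114.inv_autMap_apply α hx,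
      autMap_conjAut hmn.2 hx, conjMap_apply]
  have hgL : ∀ y ∈ L, g y ∈ L := by
    intro y hy
    refine (hg.mono (le_sup_right : L ≤ N) : IsMap F L g).mapsTo_sup
      (fun x hx => le_plus P (hge x hx ▸ autMap_mem α hx)) (fun w hw => ?_) hy
    obtain ⟨⟨hwT, hwc⟩, hwn⟩ := mem_wing.1 hw
    have hwN : w ∈ N := Subgroup.mem_sup_right (Subgroup.mem_sup_right hw)
    refine Subgroup.mem_sup_right (mem_wing.2 ⟨⟨mem_of_stronglyClosed hT hg hwN hwT, fun q hq => ?_⟩,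
      (hαi.mem_normalizerIn_of_extends hg hPN hge hwN hwn).2⟩)
    obtain ⟨x, hx, rfl⟩ := (inf_iso hT hαi).exists_preimage hq
    rw [← hge x hx.1, ← hg.map_mul (hPN hx.1) hwN, ← hg.map_mul hwN (hPN hx.1), hwc x hx]
  obtain ⟨H, hH, hHco, hHe, j, hHj⟩ := exists_pPrime_aut hg (fun y hy => hg.mapsTo_sup
    (fun x hx => Subgroup.mem_sup_left (hgM x hx)) (fun x hx => Subgroup.mem_sup_right (hgL x hx)) hy)
    hPN hco hge
  have hHm := (mem_autGroup_iff hNS).1 hH
  have hLN : L ≤ N := le_sup_right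
  obtain ⟨a, ha, hae, hao⟩ := exists_restrict hNS hLN hH fun y hy => by
    rw [hHj y (hLN hy)]; exact iterate_mem hgL j hy
  have haco := hHco.coprime_dvd_left hao
  obtain ⟨G₂, hG₂, hG₂e⟩ := good_plus hS hE hn hnb hα
  have haG : Good F E L a := good_ext_eq hS hE hP (le_plus P) hLS (plus_le_normalizer P) (plus_le_sup P)
    ha haco (fun x hx => by rw [hae x (le_plus P hx), hHe x hx, hG₂e x hx]) hG₂
  have hNL : N ≤ normalizerIn S L := hNn.trans (normalizerIn_le_plus hT hPS)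
  set YL := autInducedBy N L with hYL
  have hYLI : Inn L ≤ YL := by
    rw [inn_eq_autInducedBy_self]
    exact autInducedBy_mono hLN
  have haY : ∀ y ∈ YL, a * y * a⁻¹ ∈ YL := by
    intro y hy
    obtain ⟨m, hm, hmn, rfl⟩ := mem_autInducedBy.1 hy
    refine mem_autInducedBy.2 ⟨autMap H m, autMap_mem H hm, (hNL (autMap_mem H hm)).2,
      aut_ext fun z hz => ?_⟩
    obtain ⟨x, hx, rfl⟩ : ∃ x ∈ L, autMap a x = z := ⟨_, autMap_mem a⁻¹ hz, autMap_inv_apply a hz⟩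
    have hx' : m * x * m⁻¹ ∈ L := (Subgroup.mem_normalizer_iff.1 hmn x).1 hx
    rw [autMap_mul _ _ hz, autMap_mul _ _ (autMap_mem _ hz), S5114.inv_autMap_apply a hx,
      autMap_conjAut hmn hx, conjMap_apply, autMap_conjAut _ hz, conjMap_apply, hae _ hx',
      hHm.map_conj hm (hLN hx), hae x hx]
  obtain ⟨G, hG, hGco, hGe, hGm⟩ :=
    ih YL hYLI (autInducedBy_mono hNS) a haG haco haY
  have hNM : N ≤ nSub S L YL := fun m hm =>
    mem_nSub.2 ⟨hNL hm, mem_autInducedBy.2 ⟨m, hm, (hNL hm).2, rfl⟩⟩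
  exact restrict_nSub nSub_le (hPN.trans hNM) hYI ((le_sup_left : M ≤ N).trans hNM) hαY hG hGco
    (fun x hx => by rw [hGe x (le_plus P hx), hae x (le_plus P hx), hHe x hx]) hGm

/-- The extension property at all fully normalized members of the class. -/
theorem tm_ext (hS : IsPGroup p S) (hE : E.IsNormalIn F p) {P : Subgroup Ω} (hn : F.IsFullyNormalized P)
    (hP : Cls F T P) : TMAt p F E P := by
  have hF := hE.1.2.1
  have hT := hE.1.2.2.2.1
  haveI : Finite T := finite_of_le hT.1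
  induction hk : Nat.card T - Nat.card (P ⊓ T : Subgroup Ω) using Nat.strong_induction_on
    generalizing P with
  | _ k ih =>
  have hPS := hn.1
  by_cases hb : Ctr F T (P ⊓ T)
  · have hQS : P ⊓ T ≤ S := inf_le_left.trans hPS
    haveI := finite_of_le hQS
    have hle : normalizerIn S P ≤ normalizerIn S (P ⊓ T) := fun m hm => ⟨hm.1, mem_normalizer_of_maps
      fun q hq => ⟨(Subgroup.mem_normalizer_iff.1 hm.2 q).1 hq.1, conj_mem_closed hT hm.1 hq.2⟩⟩
    obtain ⟨Q', hQ', hQn⟩ := exists_isFullyNormalized F hQS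
    obtain ⟨ψ, hψ, hψQ, -⟩ := exists_map_to_fullyNormalized hS hF hQn hQ'
    have hψN : IsMap F (normalizerIn S P) ψ := hψ.mono hle
    have hi : IsIso F P (imgSub ψ P) ψ := (hψN.mono (le_normalizerIn_self hPS)).isIso
    have heq : imgSub ψ P ⊓ T = Q' := (inf_iso hT hi).eq_imgSub.trans hψQ.eq_imgSub.symm
    exact tm_transport hS hE hn hψN hi (tm_base hS hE (isFullyNormalized_map hS hn hψN hi).1
      ((ctr_inf_iff hT hi).1 hb) (heq.symm ▸ hQn))
  · obtain ⟨L', hL', hLn⟩ := exists_isFullyNormalized F (plus_le_S hT.1 hPS)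
    obtain ⟨ψ, hψ, hψL, -⟩ := exists_map_to_fullyNormalized hS hF hLn hL'
    have hle := normalizerIn_le_plus hT hPS
    have hψN : IsMap F (normalizerIn S P) ψ := hψ.mono hle
    have hi : IsIso F P (imgSub ψ P) ψ := (hψN.mono (le_normalizerIn_self hPS)).isIso
    obtain ⟨hn', -⟩ := isFullyNormalized_map hS hn hψN hi
    set P' := imgSub ψ P with hP'
    have hP'S := hi.target_le
    have hnb' : ¬ Ctr F T (P' ⊓ T) := fun h => hb ((ctr_inf_iff hT hi).2 h)
    obtain ⟨g, hg, hge⟩ := exists_plus_iso hS hE hi hn hn'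
    have hLeq : plus T P' = L' := by
      have hc : Nat.card (plus T P') = Nat.card L' := hg.card_eq.symm.trans hψL.card_eq
      have hLN : plus T P ≤ normalizerIn S (plus T P) := le_normalizerIn_self (plus_le_S hT.1 hPS)
      haveI := finite_of_le (plus_le_S hT.1 hP'S)
      refine (Subgroup.eq_of_le_of_card_ge (H := L') (K := plus T P') (fun y hy => ?_) hc.le).symm
      obtain ⟨x, hx, rfl⟩ := hψL.exists_preimage hy
      refine (hψ.mono hLN).mapsTo_sup (fun z hz => le_plus P' (hi.mem hz)) (fun w hw => ?_) hx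
      obtain ⟨⟨hwT, hwc⟩, hwn⟩ := mem_wing.1 hw
      have hwp : w ∈ normalizerIn S P := ⟨hT.1 hwT, hwn⟩
      refine Subgroup.mem_sup_right (mem_wing.2 ⟨⟨mem_of_stronglyClosed hT hψN hwp hwT, fun q hq => ?_⟩,
        (hi.mem_normalizerIn_of_extends hψN (le_normalizerIn_self hPS) (fun _ _ => rfl) hwp hwn).2⟩)
      obtain ⟨z, hz, rfl⟩ := (inf_iso hT hi).exists_preimage hq
      have hzp := le_normalizerIn_self (S := S) hPS hz.1
      rw [← hψN.map_mul hzp hwp, ← hψN.map_mul hwp hzp, hwc z hz]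
    refine tm_transport hS hE hn hψN hi (tm_step hS hE hn' (hP.map hi) hnb'
      (ih _ ?_ (hLeq.symm ▸ hLn) ((hP.map hi).plus' hT) rfl))
    haveI := finite_of_le (inf_le_right : plus T P' ⊓ T ≤ T)
    have h1 := card_lt_card_of_lt (plus_inf_lt hS hE hn' hnb')
    have h2 : Nat.card (plus T P' ⊓ T : Subgroup Ω) ≤ Nat.card T := Subgroup.card_le_of_le inf_le_right
    have h3 := (inf_iso hT hi).card_eq
    omega

end Cfsg.Agent.Signalizer.EBal
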