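import Cfsg.Agent.Signalizer.EBal.Ext
import Cfsg.Agent.Fusion.Basic
import Cfsg.Agent.Fusion.PResidual
import Cfsg.Agent.H60.Amalgam

/-!
Conjugations by elements of `T` are good, and the focal condition: a group `G = O^p(G)` of good automorphisms
fixing `X` has its Sylow subgroup induced by `C_T(X)`.
-/

set_option autoImplicit false
set_option linter.style.haveILetI false
set_option linter.unusedSectionVars false
set_option maxHeartbeats 1000000

namespace Cfsg.Agent.Signalizer.EBal

open Cfsg Cfsg.FusionSystem Cfsg.Agent.FusionSys Cfsg.Agent.H91.CentFocal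
open Cfsg.Agent.H91.CentSE (Ctr)
open Cfsg.Agent.H89 (mem_of_stronglyClosed card_lt_card_of_lt)
open Cfsg.Agent.H89.Lift (nSub mem_nSub nSub_le le_nSub)
open Cfsg.Agent.H89.Gen (finSub)
open Cfsg.Agent.H48 (IsSylowIn)
open Cfsg.FusionSystem (centralizerIn normalizerIn)
open scoped commutatorElement

universe u v

variable {Ω : Type u} [Group Ω] {S T : Subgroup Ω} {F : FusionSystem S} {E : FusionSystem T} {p : ℕ}
variable [Finite S] [Fact p.Prime]

/-- Conjugation by an element of `T` is good. -/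
theorem good_conj (hS : IsPGroup p S) (hE : E.IsNormalIn F p) {P : Subgroup Ω} (hP : Cls F T P) {u : Ω}
    (hu : u ∈ T) (hun : u ∈ Subgroup.normalizer (P : Set Ω)) : Good F E P (conjAut hun) := by
  have hF := hE.1.2.1
  have hT := hE.1.2.2.2.1
  haveI : Finite T := finite_of_le hT.1
  induction hk : Nat.card T - Nat.card (P ⊓ T : Subgroup Ω) using Nat.strong_induction_on
    generalizing P u with
  | _ k ih =>
  have huN : u ∈ normalizerIn S P := ⟨hT.1 hu, hun⟩
  by_cases hb : Ctr F T (P ⊓ T)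
  · refine Good.base hb (conjAut_mem_autGroup F hP.1 huN) (fun y hy => ?_)
      ((isMap_conj E inf_le_right hu).congr fun x hx => autMap_conjAut hun hx.1)
    rw [autMap_conjAut hun hy, conjMap_apply]
    exact conj_moves hT (hP.1 hy) hu
  obtain ⟨P', hP', hn⟩ := exists_isFullyNormalized F hP.1
  obtain ⟨φ, hφ, hφi, hφn⟩ := exists_map_to_fullyNormalized hS hF hn hP'
  have hnb' : ¬ Ctr F T (P' ⊓ T) := fun h => hb ((ctr_inf_iff hT hφi).2 h)
  set u' := φ u with hu'
  have hu'T : u' ∈ T := mem_of_stronglyClosed hT hφ huN hu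
  have hu'n : u' ∈ Subgroup.normalizer (plus T P' : Set Ω) :=
    (normalizerIn_le_plus hT hn.1 (hφn u huN)).2
  haveI := finite_of_le (inf_le_right : plus T P' ⊓ T ≤ T)
  have h1 : Nat.card (P ⊓ T : Subgroup Ω) < Nat.card (plus T P' ⊓ T : Subgroup Ω) :=
    (inf_iso hT hφi).card_eq ▸ card_lt_card_of_lt (plus_inf_lt hS hE hn hnb')
  have h2 : Nat.card (plus T P' ⊓ T : Subgroup Ω) ≤ Nat.card T := Subgroup.card_le_of_le inf_le_right
  refine Good.step hb hφi hn (ih _ (by omega) ((hP.map hφi).plus' hT) hu'T hu'n rfl) fun y hy => ?_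
  have hyN := le_normalizerIn_self (S := S) hP.1 hy
  rw [autMap_conjAut hu'n (le_plus P' (hφi.mem hy)), autMap_conjAut hun hy, conjMap_apply, conjMap_apply,
    hu', hφ.map_conj huN hyN]

/-- The focal condition. -/
theorem focal_core (hS : IsPGroup p S) (hE : E.IsNormalIn F p) {X P : Subgroup Ω}
    (hn : F.IsFullyNormalized P) (hP : Cls F T P) (hXP : X ≤ P) {G : Type v} [Group G] [Finite G]
    (htop : pResidual p G = ⊤) (ρ : G →* MulAut P) (hgood : ∀ g, Good F E P (ρ g))
    (hfix : ∀ g, ∀ z ∈ X, autMap (ρ g) z = z) (P0 : Sylow p G)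
    (hP0 : ∀ g ∈ (P0 : Subgroup G), ρ g ∈ autInducedBy S P) :
    ∀ g ∈ (P0 : Subgroup G), ρ g ∈ autInducedBy (centralizerIn T X) P := by
  have hT := hE.1.2.2.2.1
  have hPS := hn.1
  have hXS := hXP.trans hPS
  haveI := finite_of_le hPS
  haveI := finite_mulAut_of_le hPS
  set U := centralizerIn T X with hU
  have hUS : U ≤ S := centralizerIn_le.trans hT.1
  set U0 := (autInducedBy U P).comap ρ with hU0
  set U0' := U0 ⊓ (P0 : Subgroup G) with hU0'
  set C := ⁅(P0 : Subgroup G), (P0 : Subgroup G)⁆ with hC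
  set B := U0' ⊔ C with hB
  -- `S` normalizes as far as it fixes `X`
  have hUn : (P0 : Subgroup G) ≤ Subgroup.normalizer (U0' : Set G) := by
    intro g hg
    refine H48.mem_normalizer_of_cj_eq (H48.cj_eq_self_of_le (H48.cj_le.2 fun x hx => ?_))
    obtain ⟨hxU, hxP⟩ := Subgroup.mem_inf.1 hx
    refine ⟨?_, mul_mem (mul_mem hg hxP) (Subgroup.inv_mem _ hg)⟩
    obtain ⟨a, ha, han, hae⟩ := mem_autInducedBy.1 (hP0 g hg)
    obtain ⟨t, ht, htn, hte⟩ := mem_autInducedBy.1 hxU
    obtain ⟨htT, htc⟩ := FusionSys.mem_centralizerIn.1 ht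
    have hac : ∀ z ∈ X, a * z * a⁻¹ = z := fun z hz => by
      have h1 := hfix g z hz
      rwa [hae, autMap_conjAut han (hXP hz), conjMap_apply] at h1
    refine mem_autInducedBy.2 ⟨a * t * a⁻¹, FusionSys.mem_centralizerIn.2
      ⟨conj_mem_closed hT ha htT, fun z hz => ?_⟩, mul_mem (mul_mem han htn) (Subgroup.inv_mem _ han), ?_⟩
    · have h2 : a⁻¹ * z * a = z := by
        conv_lhs => rw [← hac z hz]
        group
      calc z * (a * t * a⁻¹) = a * (a⁻¹ * z * a * t) * a⁻¹ := by group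
        _ = a * (t * (a⁻¹ * z * a)) * a⁻¹ := by rw [h2, htc z hz]
        _ = _ := by group
    · rw [map_mul, map_mul, map_inv, hae, hte]
      show conjAutHom P ⟨a, han⟩ * conjAutHom P ⟨t, htn⟩ * (conjAutHom P ⟨a, han⟩)⁻¹ = _
      rw [← map_inv, ← map_mul, ← map_mul]
      rfl
  have key : ∀ (P' : Sylow p G), Fusion.IsTame P0 P' → ∀ n : G,
      n ∈ Subgroup.normalizer (((P0 : Subgroup G) ⊓ (P' : Subgroup G) : Subgroup G) : Set G) →
      ∀ y ∈ (P0 : Subgroup G) ⊓ (P' : Subgroup G), y⁻¹ * (n * y * n⁻¹) ∈ B := by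
    intro P' htame
    set Y0 : Subgroup G := (P0 : Subgroup G) ⊓ (P' : Subgroup G) with hY0
    set N := Subgroup.normalizer (Y0 : Set G) with hN
    let K : Subgroup N := finSub
      { carrier := {n | ∀ y ∈ Y0, y⁻¹ * ((n : G) * y * (n : G)⁻¹) ∈ B}
        one_mem' := fun y _ => by simp [B.one_mem]
        mul_mem' := fun {a b} ha hb y hy => by
          have h1 := hb y hy
          have h2 := ha _ ((Subgroup.mem_normalizer_iff.1 b.2 y).1 hy)
          have h3 := B.mul_mem h1 h2
          convert h3 using 1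
          simp only [Subgroup.coe_mul]
          group }
    have hsyN : IsSylowIn p ((P0 : Subgroup G) ⊓ N) N :=
      ⟨inf_le_right, P0.isPGroup'.to_le inf_le_left, htame.1⟩
    suffices h : K = ⊤ from fun n hn => h.ge (Subgroup.mem_top (⟨n, hn⟩ : N))
    refine top_le_iff.1 ((Fusion.sylow_sup_pResidual hsyN.toSylow).ge.trans (sup_le (fun n hn => ?_) ?_))
    · rw [hsyN.coe_toSylow] at hn
      have hn₀ : (n : G) ∈ (P0 : Subgroup G) := (Subgroup.mem_subgroupOf.1 hn).1
      intro y hy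
      refine Subgroup.mem_sup_right ?_
      rw [show y⁻¹ * ((n : G) * y * (n : G)⁻¹) = ⁅y⁻¹, (n : G)⁆ by rw [commutatorElement_def]; group]
      exact Subgroup.commutator_mem_commutator (Subgroup.inv_mem _ hy.1) hn₀
    · refine Cores.pResidual_le fun n hn' y hy => ?_
      refine Subgroup.mem_sup_left ⟨?_, mul_mem (Subgroup.inv_mem _ hy.1)
        ((Subgroup.mem_normalizer_iff.1 n.2 y).1 hy).1⟩
      set x : MulAut P := ρ n with hx
      set Y : Subgroup (MulAut P) := Y0.map ρ ⊔ Inn P with hY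
      have hYS : Y ≤ autInducedBy S P := by
        refine sup_le ?_ ?_
        · rintro _ ⟨z, hz, rfl⟩
          exact hP0 z hz.1
        · rw [inn_eq_autInducedBy_self]
          exact autInducedBy_mono hPS
      have hxY : ∀ w ∈ Y, x * w * x⁻¹ ∈ Y := by
        have hle : Y ≤ Y.comap (MulAut.conj x).toMonoidHom := sup_le (by
          rintro _ ⟨z, hz, rfl⟩
          exact Subgroup.mem_sup_left
            ⟨_, (Subgroup.mem_normalizer_iff.1 n.2 z).1 hz, by rw [map_mul, map_mul, map_inv]; rfl⟩)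
          (H89.Lift.inn_conj le_sup_right x)
        exact fun w hw => hle hw
      set M := nSub S P Y with hM
      obtain ⟨Gx, hGx, -, hGxe, hGxm⟩ := tm_ext hS hE hn hP Y le_sup_right hYS x (hgood n)
        ((hn'.coprime_dvd_left ((orderOf_map_dvd ρ (n : G)).trans (by rw [Subgroup.orderOf_coe])))) hxY
      have hMS : M ≤ S := nSub_le
      have hPM : P ≤ M := le_nSub hPS le_sup_right
      have hGM := (mem_autGroup_iff hMS).1 hGx
      obtain ⟨a, ha, han, hae⟩ := mem_autInducedBy.1 (hP0 y hy.1)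
      have haM : a ∈ M := mem_nSub.2 ⟨⟨ha, han⟩, Subgroup.mem_sup_left ⟨y, hy, hae⟩⟩
      have hGaM : autMap Gx a ∈ M := autMap_mem Gx haM
      have hGan : autMap Gx a ∈ Subgroup.normalizer (P : Set Ω) := (mem_nSub.1 hGaM).1.2
      have hGax : ∀ w ∈ P, autMap x (a * w * a⁻¹) = autMap Gx a * autMap x w * (autMap Gx a)⁻¹ :=
        fun w hw => by
          rw [← hGxe _ ((Subgroup.mem_normalizer_iff.1 han w).1 hw), hGM.map_conj haM (hPM hw), hGxe w hw]
      have hXfix : ∀ z ∈ X, a * z * a⁻¹ = z ∧ autMap Gx a * z * (autMap Gx a)⁻¹ = z := fun z hz => by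
        have h1 := hfix y z hz
        rw [hae, autMap_conjAut han (hXP hz), conjMap_apply] at h1
        refine ⟨h1, ?_⟩
        have h2 := hGax z (hXP hz)
        rw [h1, hx, hfix _ z hz] at h2
        exact h2.symm
      refine Subgroup.mem_comap.2 (mem_autInducedBy.2 ⟨a⁻¹ * autMap Gx a, FusionSys.mem_centralizerIn.2
        ⟨hGxm a haM, fun z hz => ?_⟩, mul_mem (Subgroup.inv_mem _ han) hGan, ?_⟩)
      · obtain ⟨h1, h2⟩ := hXfix z hz
        calc z * (a⁻¹ * autMap Gx a) = a⁻¹ * (a * z * a⁻¹) * autMap Gx a := by group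
          _ = a⁻¹ * (autMap Gx a * z * (autMap Gx a)⁻¹) * autMap Gx a := by rw [h1, h2]
          _ = _ := by group
      · have hxy : x * ρ y * x⁻¹ = conjAut hGan := aut_ext fun z hz => by
          obtain ⟨w, hw, rfl⟩ : ∃ w ∈ P, autMap x w = z :=
            ⟨_, autMap_mem _ hz, autMap_inv_apply x hz⟩
          have hxw := autMap_mem x hw
          rw [autMap_mul _ _ hxw, S5114.inv_autMap_apply x hw, autMap_mul _ _ hw, hae,
            autMap_conjAut han hw, autMap_conjAut hGan hxw, conjMap_apply, conjMap_apply, hGax w hw]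
        rw [map_mul, map_mul, map_mul, map_inv, map_inv, ← hx, hxy, hae]
        show (conjAutHom P ⟨a, han⟩)⁻¹ * conjAutHom P ⟨autMap Gx a, hGan⟩ = _
        rw [← map_inv, ← map_mul]
        rfl
  have main : ∀ (w g : G), w ∈ (P0 : Subgroup G) → g⁻¹ * w * g ∈ (P0 : Subgroup G) →
      w⁻¹ * (g⁻¹ * w * g) ∈ B := by
    intro w g hw hwg
    have h : Fusion.Conn P0 {w} g := Fusion.alperin P0 (by rintro _ rfl; exact hw)
      (by rintro _ ⟨a, rfl, rfl⟩; exact hwg)
    suffices H : ∀ (A : Set G) (g : G), Fusion.Conn P0 A g → ∀ a ∈ A,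
        a⁻¹ * (g⁻¹ * a * g) ∈ B from H _ _ h w rfl
    intro A g hA
    induction hA with
    | refl A => intro a _; simp [B.one_mem]
    | step A g x P' htame hA hx _ ih =>
      intro a ha
      have h1 := key P' htame x⁻¹ (Subgroup.inv_mem _ hx) a (hA ha)
      have h2 := ih _ ⟨a, ha, rfl⟩
      have h3 := B.mul_mem h1 h2
      convert h3 using 1
      group
  have hle : (P0 : Subgroup G) ≤ B := by
    intro g hg
    have hfoc : g ∈ (P0 : Subgroup G).focalSubgroup :=
      (Fusion.pResidual_sup_commutator_inf P0).le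
        ⟨Subgroup.mem_sup_left (htop.ge (Subgroup.mem_top g)), hg⟩
    refine (?_ : (P0 : Subgroup G).focalSubgroup ≤ B) hfoc
    rw [Subgroup.focalSubgroup_def, Subgroup.closure_le]
    rintro _ ⟨hmem, y, hy, a, rfl⟩
    have ha : a⁻¹⁻¹ * y⁻¹ * a⁻¹ ∈ (P0 : Subgroup G) := by
      have := mul_mem (Subgroup.inv_mem _ hy) hmem
      convert this using 1
      rw [commutatorElement_def]
      group
    have h := main y⁻¹ a⁻¹ (Subgroup.inv_mem _ hy) ha
    show ⁅y, a⁆ ∈ B
    convert h using 1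
    rw [commutatorElement_def]
    group
  intro g hg
  exact (H60.le_of_le_sup_commutator P0.isPGroup' le_rfl inf_le_right hUn hle hg).1

end Cfsg.Agent.Signalizer.EBal
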