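import Cfsg.Agent.Signalizer.EBal.Basic

/-!
The automorphisms trivial modulo `T` of subgroups `P` with `C_T(P') ≤ P'` for all conjugates which lie in the
product of a normal subsystem `E` over `T` with `S`, by recursion to the case of a centric `P ∩ T`.
-/

set_option autoImplicit false
set_option linter.style.haveILetI false
set_option linter.unusedSectionVars false

namespace Cfsg.Agent.Signalizer.EBal

open Cfsg Cfsg.FusionSystem Cfsg.Agent.FusionSys Cfsg.Agent.H91.CentFocal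
open Cfsg.Agent.H91.CentSE (Ctr)
open Cfsg.Agent.H89 (mem_of_stronglyClosed)
open Cfsg.Agent.H89.Gen (modGroup mem_modGroup modGroup_conj finSub)
open Cfsg.Agent.Signalizer.FusComp (fixGroup)
open Cfsg.FusionSystem (centralizerIn normalizerIn)

universe u

variable {Ω : Type u} [Group Ω] {S T : Subgroup Ω} {F : FusionSystem S} {E : FusionSystem T} {p : ℕ}

/-- The class: all conjugates contain their centralizers in `T`. -/
def Cls (F : FusionSystem S) (T P : Subgroup Ω) : Prop := P ≤ S ∧ Ctr F T P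

/-- The elements of `T` centralizing `P ∩ T` and normalizing `P`. -/
def wing (T P : Subgroup Ω) : Subgroup Ω := normalizerIn (centralizerIn T (P ⊓ T)) P

/-- `P` enlarged by the wing. -/
def plus (T P : Subgroup Ω) : Subgroup Ω := P ⊔ wing T P

theorem mem_wing {P : Subgroup Ω} {w : Ω} :
    w ∈ wing T P ↔ (w ∈ T ∧ ∀ q ∈ P ⊓ T, q * w = w * q) ∧ w ∈ Subgroup.normalizer (P : Set Ω) :=
  ⟨fun h => ⟨FusionSys.mem_centralizerIn.1 h.1, h.2⟩, fun h => ⟨FusionSys.mem_centralizerIn.2 h.1, h.2⟩⟩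

/-- The recursive predicate. -/
inductive Good (F : FusionSystem S) (E : FusionSystem T) : ∀ (P : Subgroup Ω), MulAut P → Prop
  | base {P : Subgroup Ω} {α : MulAut P} : Ctr F T (P ⊓ T) → α ∈ F.autGroup P →
      (∀ y ∈ P, y⁻¹ * autMap α y ∈ T) → IsMap E (P ⊓ T) (autMap α) → Good F E P α
  | step {P P' : Subgroup Ω} {α : MulAut P} {f : Ω → Ω} {G : MulAut (plus T P')} :
      ¬ Ctr F T (P ⊓ T) → IsIso F P P' f → F.IsFullyNormalized P' → Good F E (plus T P') G →
      (∀ y ∈ P, autMap G (f y) = f (autMap α y)) → Good F E P α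

theorem le_plus (P : Subgroup Ω) : P ≤ plus T P := le_sup_left

theorem wing_le_T (P : Subgroup Ω) : wing T P ≤ T := fun _ h => (mem_wing.1 h).1.1

theorem plus_le_S (hT : T ≤ S) {P : Subgroup Ω} (hP : P ≤ S) : plus T P ≤ S :=
  sup_le hP ((wing_le_T P).trans hT)

theorem plus_le_sup (P : Subgroup Ω) : plus T P ≤ P ⊔ (plus T P ⊓ T) :=
  sup_le le_sup_left (le_sup_of_le_right (le_inf le_sup_right (wing_le_T P)))

theorem plus_le_normalizer (P : Subgroup Ω) : plus T P ≤ Subgroup.normalizer (P : Set Ω) :=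
  sup_le Subgroup.le_normalizer fun _ h => (mem_wing.1 h).2

theorem inExt_sup {P A B : Subgroup Ω} {f : Ω → Ω} (hf : IsMap F P f) (hA : ∀ x ∈ A, InExt S P f x)
    (hB : ∀ x ∈ B, InExt S P f x) : ∀ x ∈ A ⊔ B, InExt S P f x := by
  obtain ⟨φ, -, hφ⟩ := hf
  have hle : A ⊔ B ≤ extender S P φ :=
    sup_le (fun a ha => (mem_extender_iff hφ).2 (hA a ha)) (fun b hb => (mem_extender_iff hφ).2 (hB b hb))
  exact fun x hx => (mem_extender_iff hφ).1 (hle hx)

section Transport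

variable [Finite S]

theorem conj_moves (hT : F.StronglyClosed T) {s t : Ω} (hs : s ∈ S) (ht : t ∈ T) :
    s⁻¹ * (t * s * t⁻¹) ∈ T := by
  have h := T.mul_mem (conj_mem_closed hT (S.inv_mem hs) ht) (T.inv_mem ht)
  convert h using 1
  group

theorem inf_iso (hT : F.StronglyClosed T) {P R : Subgroup Ω} {h : Ω → Ω} (hh : IsIso F P R h) :
    IsIso F (P ⊓ T) (R ⊓ T) h := by
  obtain ⟨g, hg, hgh, hhg⟩ := hh.exists_symm
  refine ⟨hh.isMap.mono inf_le_left, Set.ext fun y => ⟨?_, fun hy => ?_⟩⟩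
  · rintro ⟨x, hx, rfl⟩
    exact ⟨hh.mem hx.1, mem_of_stronglyClosed hT hh.isMap hx.1 hx.2⟩
  · exact ⟨g y, ⟨hg.mem hy.1, mem_of_stronglyClosed hT hg.isMap hy.1 hy.2⟩, hhg y hy.1⟩

theorem ctr_inf_iff (hT : F.StronglyClosed T) {P R : Subgroup Ω} {h : Ω → Ω} (hh : IsIso F P R h) :
    Ctr F T (P ⊓ T) ↔ Ctr F T (R ⊓ T) :=
  ⟨fun hc => hc.of_isConj (inf_iso hT hh).isConj,
    fun hc => hc.of_isConj (isConj_symm (inf_iso hT hh).isConj)⟩

theorem Cls.map {P R : Subgroup Ω} {h : Ω → Ω} (hP : Cls F T P) (hh : IsIso F P R h) : Cls F T R :=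
  ⟨hh.target_le, hP.2.of_isConj hh.isConj⟩

theorem Cls.mono {P R : Subgroup Ω} (hP : Cls F T P) (hle : P ≤ R) (hR : R ≤ S) : Cls F T R :=
  ⟨hR, hP.2.mono hle⟩

theorem Cls.plus' (hT : F.StronglyClosed T) {P : Subgroup Ω} (hP : Cls F T P) : Cls F T (plus T P) :=
  hP.mono (le_plus P) (plus_le_S hT.1 hP.1)

theorem Cls.cent_le {P : Subgroup Ω} (hP : Cls F T P) : centralizerIn T P ≤ P :=
  hP.2 P (isConj_refl F hP.1)

end Transport

variable [Finite S] [Fact p.Prime]

theorem Good.spec (hE : E.IsNormalIn F p) {P : Subgroup Ω} {α : MulAut P} (h : Good F E P α) :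
    α ∈ F.autGroup P ∧ (∀ y ∈ P, y⁻¹ * autMap α y ∈ T) ∧ IsMap E (P ⊓ T) (autMap α) := by
  have hT := hE.1.2.2.2.1
  induction h with
  | base _ h1 h2 h3 => exact ⟨h1, h2, h3⟩
  | @step P P' α f G hnb hf hn _ he ih =>
    obtain ⟨hG, hGm, hGE⟩ := ih
    obtain ⟨g, hg, hgf, -⟩ := hf.exists_symm
    have hP'S := hf.target_le
    have hGmap : IsMap F P' (autMap G) :=
      ((mem_autGroup_iff (plus_le_S hT.1 hP'S)).1 hG).mono (le_plus P')
    have hm : ∀ x ∈ P, autMap G (f x) ∈ P' := fun x hx => by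
      rw [he x hx]; exact hf.mem (autMap_mem α hx)
    refine ⟨mem_autGroup_of_isMap (((hf.isMap.comp hGmap fun x hx => hf.mem hx).comp hg.isMap
      fun x hx => hm x hx).congr fun x hx => ?_), fun y hy => ?_, ?_⟩
    · rw [Function.comp_apply, Function.comp_apply, he x hx, hgf _ (autMap_mem α hx)]
    · have h1 : f (y⁻¹ * autMap α y) ∈ P' ⊓ T := by
        refine ⟨hf.mem (mul_mem (inv_mem hy) (autMap_mem α hy)), ?_⟩
        rw [hf.isMap.map_mul (inv_mem hy) (autMap_mem α hy), hf.isMap.map_inv hy, ← he y hy]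
        exact hGm _ (le_plus P' (hf.mem hy))
      have h2 := mem_of_stronglyClosed hT hg.isMap h1.1 h1.2
      rwa [hgf _ (mul_mem (inv_mem hy) (autMap_mem α hy))] at h2
    · haveI : Finite T := finite_of_le hT.1
      have hi := inf_iso hT hf
      haveI := finite_of_le hi.source_le
      haveI := finite_of_le hi.target_le
      have hm' : ∀ y ∈ P' ⊓ T, autMap G y ∈ P' ⊓ T := fun y hy => by
        obtain ⟨x, hx, rfl⟩ := hf.exists_preimage hy.1
        exact ⟨hm x hx, mem_of_stronglyClosed hT hGmap hy.1 hy.2⟩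
      obtain ⟨a, ha, hae⟩ := (isIso_of_mapsTo
        (hGE.mono (inf_le_inf_right T (le_plus P'))) hm').exists_aut
      obtain ⟨v, hv, hvf, hfv⟩ := hi.exists_symm
      have hb := autEquiv_mem hE.1.2.2 (inf_le_right : P' ⊓ T ≤ T) hv ha
      refine ((mem_autGroup_iff inf_le_right).1 hb).congr fun x hx => ?_
      obtain ⟨y, hy, rfl⟩ := hv.exists_preimage hx
      rw [hv.autMap_autEquiv a hy, hae y hy]
      have hfx := hfv y hy
      nth_rw 2 [← hfx]
      rw [he (v y) hx.1]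
      exact (hvf _ ⟨autMap_mem α hx.1, by
        have h1 := hm' y hy
        nth_rw 1 [← hfx] at h1
        rw [he (v y) hx.1] at h1
        have h2 := mem_of_stronglyClosed hT hg.isMap h1.1 h1.2
        rwa [hgf _ (autMap_mem α hx.1)] at h2⟩).symm

theorem Good.transport (hE : E.IsNormalIn F p) {P R : Subgroup Ω} {h : Ω → Ω} (hh : IsIso F P R h)
    {α : MulAut P} (hα : Good F E P α) : Good F E R (hh.autEquiv α) := by
  have hT := hE.1.2.2.2.1
  obtain ⟨h1, h2, h3⟩ := hα.spec hE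
  cases hα with
  | base hb _ _ _ =>
    refine Good.base ((ctr_inf_iff hT hh).1 hb) (hh.autEquiv_mem_autGroup h1) (fun y hy => ?_) ?_
    · obtain ⟨x, hx, rfl⟩ := hh.exists_preimage hy
      rw [hh.autMap_autEquiv α hx, ← hh.isMap.map_inv hx,
        ← hh.isMap.map_mul (inv_mem hx) (autMap_mem α hx)]
      exact mem_of_stronglyClosed hT hh.isMap (mul_mem (inv_mem hx) (autMap_mem α hx)) (h2 x hx)
    · have hi := inf_iso hT hh
      haveI := finite_of_le hi.source_le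
      have hαm := (mem_autGroup_iff hh.source_le).1 h1
      obtain ⟨a, ha, hae⟩ := (isIso_of_mapsTo h3 fun y hy =>
        ⟨autMap_mem α hy.1, mem_of_stronglyClosed hT hαm hy.1 hy.2⟩).exists_aut
      refine ((mem_autGroup_iff inf_le_right).1 (autEquiv_mem hE.1.2.2 inf_le_right hi ha)).congr
        fun x hx => ?_
      obtain ⟨y, hy, rfl⟩ := hi.exists_preimage hx
      rw [hi.autMap_autEquiv a hy, hae y hy, hh.autMap_autEquiv α hy.1]
  | @step _ P' _ f G hnb hf hn hG he =>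
    obtain ⟨v, hv, hvh, -⟩ := hh.exists_symm
    refine Good.step (fun hb => hnb ((ctr_inf_iff hT hh).2 hb)) (hv.comp hf) hn hG fun y hy => ?_
    obtain ⟨x, hx, rfl⟩ := hh.exists_preimage hy
    rw [Function.comp_apply, Function.comp_apply, hvh x hx, he x hx, hh.autMap_autEquiv α hx,
      hvh _ (autMap_mem α hx)]

/-- Automorphisms of `P` fixing `P ∩ T` and moving points by its elements come from `S`. -/
theorem stab_le (hS : IsPGroup p S) (hE : E.IsNormalIn F p) {P : Subgroup Ω}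
    (hn : F.IsFullyNormalized P) [Finite (MulAut P)] :
    F.autGroup P ⊓ modGroup P (P ⊓ T) ⊓ fixGroup P T ≤ autInducedBy S P := by
  have hF := hE.1.2.1
  have hT := hE.1.2.2.2.1
  have hPS := hn.1
  haveI := finite_of_le (inf_le_left.trans hPS : P ⊓ T ≤ S)
  set N := (F.autGroup P ⊓ modGroup P (P ⊓ T) ⊓ fixGroup P T).subgroupOf (F.autGroup P) with hN
  haveI : N.Normal := ⟨by
    rintro a ⟨⟨haF, ham⟩, haf⟩ c
    have hcm := (mem_autGroup_iff hPS).1 c.2
    refine ⟨⟨(c * a * c⁻¹ : F.autGroup P).2, modGroup_conj hPS c.2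
      (fun y hy hyT => ⟨autMap_mem _ hy, mem_of_stronglyClosed hT hcm hy hyT.2⟩) ham⟩, fun y hy hyT => ?_⟩
    have h1 : autMap (c : MulAut P)⁻¹ y ∈ T :=
      mem_of_stronglyClosed hT ((mem_autGroup_iff hPS).1 (inv_mem c.2)) hy hyT
    show autMap ((c : MulAut P) * (a : MulAut P) * (c : MulAut P)⁻¹) y = y
    have e := haf _ (autMap_mem _ hy) h1
    change autMap (a : MulAut P) _ = _ at e
    rw [autMap_mul _ _ hy, autMap_mul _ _ (autMap_mem _ hy), e, autMap_inv_apply _ hy]⟩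
  obtain ⟨n, hn'⟩ := IsPGroup.iff_card.1 (hS.to_le (inf_le_left.trans hPS : P ⊓ T ≤ S))
  have hNp : IsPGroup p N := fun k => ⟨n, Subtype.ext (Subtype.ext (by
    obtain ⟨⟨hkF, hkm⟩, hkf⟩ := Subgroup.mem_subgroupOf.1 k.2
    rw [← hn']
    exact pow_card_eq_one_of_moves hPS inf_le_left hkF (fun z hz => hkf z hz.1 hz.2) hkm))⟩
  haveI := finite_autGroup F hPS
  obtain ⟨-, Sy, hSy⟩ := isFullyAutomized_of_isFullyNormalized hS hF hn
  intro k hk
  have hkS : (⟨k, hk.1.1⟩ : F.autGroup P) ∈ (Sy : Subgroup (F.autGroup P)) :=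
    Cfsg.Agent.H89.ResidualExtend.le_sylow_of_normal hNp Sy (Subgroup.mem_subgroupOf.2 hk)
  rw [hSy] at hkS
  exact Subgroup.mem_subgroupOf.1 hkS

theorem wing_inExt (hS : IsPGroup p S) (hE : E.IsNormalIn F p) {P R : Subgroup Ω} {h : Ω → Ω}
    (hh : IsIso F P R h) (hn : F.IsFullyNormalized R) {w : Ω} (hw : w ∈ wing T P) :
    InExt S P h w := by
  have hT := hE.1.2.2.2.1
  obtain ⟨⟨hwT, hwc⟩, hwn⟩ := mem_wing.1 hw
  haveI := finite_mulAut_of_le hn.1
  set γ := hh.autEquiv (conjAut hwn) with hγ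
  have hγm : γ ∈ F.autGroup R ⊓ modGroup R (R ⊓ T) ⊓ fixGroup R T := by
    refine ⟨⟨hh.autEquiv_mem_autGroup (conjAut_mem_autGroup F hh.source_le ⟨hT.1 hwT, hwn⟩),
      fun y hy => ?_⟩, fun y hy hyT => ?_⟩
    · obtain ⟨x, hx, rfl⟩ := hh.exists_preimage hy
      have hx' := (Subgroup.mem_normalizer_iff.1 hwn x).1 hx
      rw [hγ, hh.autMap_autEquiv _ hx, autMap_conjAut hwn hx, conjMap_apply, ← hh.isMap.map_inv hx,
        ← hh.isMap.map_mul (inv_mem hx) hx']
      refine (inf_iso hT hh).mem ⟨mul_mem (Subgroup.inv_mem _ hx) hx', ?_⟩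
      exact conj_moves hT (hh.source_le hx) hwT
    · obtain ⟨x, hx, rfl⟩ := (inf_iso hT hh).exists_preimage ⟨hy, hyT⟩
      rw [hγ, hh.autMap_autEquiv _ hx.1, autMap_conjAut hwn hx.1, conjMap_apply, ← hwc x hx,
        mul_inv_cancel_right]
  obtain ⟨s, hs, hsn, hse⟩ := mem_autInducedBy.1 (stab_le hS hE hn hγm)
  refine ⟨hT.1 hwT, hwn, s, hs, fun x hx => ?_⟩
  have h1 := congrArg (fun a => autMap a (h x)) hse
  rw [hγ] at h1
  change autMap (hh.autEquiv (conjAut hwn)) (h x) = autMap (conjAut hsn) (h x) at h1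
  rwa [hh.autMap_autEquiv _ hx, autMap_conjAut hwn hx, autMap_conjAut hsn (hh.mem hx)] at h1

/-- A map onto a fully normalized subgroup extends to the wing. -/
theorem exists_plus_map (hS : IsPGroup p S) (hE : E.IsNormalIn F p) {P R : Subgroup Ω} {h : Ω → Ω}
    (hh : IsIso F P R h) (hn : F.IsFullyNormalized R) :
    ∃ g, IsMap F (plus T P) g ∧ (∀ x ∈ P, g x = h x) ∧ ∀ y ∈ plus T P, g y ∈ plus T R := by
  have hT := hE.1.2.2.2.1
  obtain ⟨g, hg, hge⟩ := receptive_extend (receptive_of_isFullyNormalized hS hE.1.2.1 hn) hh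
    (N := plus T P) (inExt_sup hh.isMap (fun x hx => hh.isMap.inExt_of_mem hx)
      fun w hw => wing_inExt hS hE hh hn hw)
  replace hg : IsMap F (plus T P) g := hg.mono le_sup_left
  refine ⟨g, hg, hge, fun y hy => hg.mapsTo_sup
    (fun x hx => le_plus R ((hge x hx).symm ▸ hh.mem hx)) (fun w hw => ?_) hy⟩
  obtain ⟨⟨hwT, hwc⟩, hwn⟩ := mem_wing.1 hw
  have hwp : w ∈ plus T P := Subgroup.mem_sup_right hw
  refine Subgroup.mem_sup_right (mem_wing.2 ⟨⟨mem_of_stronglyClosed hT hg hwp hwT, fun q hq => ?_⟩,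
    (hh.mem_normalizerIn_of_extends hg (le_plus P) hge hwp hwn).2⟩)
  obtain ⟨x, hx, rfl⟩ := (inf_iso hT hh).exists_preimage hq
  rw [← hge x hx.1, ← hg.map_mul (le_plus P hx.1) hwp, ← hg.map_mul hwp (le_plus P hx.1), hwc x hx]

theorem exists_plus_iso (hS : IsPGroup p S) (hE : E.IsNormalIn F p) {P R : Subgroup Ω} {h : Ω → Ω}
    (hh : IsIso F P R h) (hPn : F.IsFullyNormalized P) (hn : F.IsFullyNormalized R) :
    ∃ g, IsIso F (plus T P) (plus T R) g ∧ ∀ x ∈ P, g x = h x := by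
  have hT := hE.1.2.2.2.1
  obtain ⟨g, hg, hge, hgm⟩ := exists_plus_map hS hE hh hn
  obtain ⟨v, hv, -, -⟩ := hh.exists_symm
  obtain ⟨k, hk, -, hkm⟩ := exists_plus_map hS hE hv hPn
  have hi := hg.isIso
  have hle : imgSub g (plus T P) ≤ plus T R := fun y hy => by
    obtain ⟨x, hx, rfl⟩ := hg.mem_imgSub.1 hy
    exact hgm x hx
  haveI := finite_of_le (plus_le_S hT.1 hn.1)
  have hc : Nat.card (plus T R) ≤ Nat.card (imgSub g (plus T P)) := by
    rw [← hi.card_eq, hk.isIso.card_eq]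
    haveI := finite_of_le (plus_le_S hT.1 hPn.1)
    exact Subgroup.card_le_of_le fun y hy => by
      obtain ⟨x, hx, rfl⟩ := hk.mem_imgSub.1 hy
      exact hkm x hx
  exact ⟨g, Subgroup.eq_of_le_of_card_ge hle hc ▸ hi, hge⟩

/-- Outside the base case the wing of a fully normalized member is not inside it. -/
theorem exists_wing (hS : IsPGroup p S) (hE : E.IsNormalIn F p) {P : Subgroup Ω}
    (hn : F.IsFullyNormalized P) (hnb : ¬ Ctr F T (P ⊓ T)) : ∃ w ∈ wing T P, w ∉ P := by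
  have hF := hE.1.2.1
  have hT := hE.1.2.2.2.1
  have hPS := hn.1
  obtain ⟨R, hR, c, hc, hcR⟩ : ∃ R, F.IsConj (P ⊓ T) R ∧ ∃ c ∈ centralizerIn T R, c ∉ R := by
    by_contra hno
    push Not at hno
    exact hnb fun R hR c hc => hno R hR c hc
  have hQS : P ⊓ T ≤ S := inf_le_left.trans hPS
  obtain ⟨Q, hQ, hQn⟩ := exists_isFullyNormalized F hQS
  -- a centralizing element outside `Q`
  obtain ⟨g, hg, hgi, -⟩ := exists_map_to_fullyNormalized hS hF hQn (isConj_trans (isConj_symm hR) hQ)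
  obtain ⟨hcT, hcc⟩ := FusionSys.mem_centralizerIn.1 hc
  have hRN : R ≤ normalizerIn S R := le_normalizerIn_self hgi.source_le
  have hcN : c ∈ normalizerIn S R :=
    centralizerIn_le_normalizerIn (FusionSys.mem_centralizerIn.2 ⟨hT.1 hcT, hcc⟩)
  have hx₀T : g c ∈ T := mem_of_stronglyClosed hT hg hcN hcT
  have hx₀Q : g c ∉ Q := fun h => hcR (by
    obtain ⟨r, hr, hre⟩ := hgi.exists_preimage h
    exact hg.injOn (hRN hr) hcN hre ▸ hr)
  have hx₀c : ∀ q ∈ Q, q * g c = g c * q := fun q hq => by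
    obtain ⟨r, hr, rfl⟩ := hgi.exists_preimage hq
    rw [← hg.map_mul (hRN hr) hcN, ← hg.map_mul hcN (hRN hr), hcc r hr]
  -- move `P` along
  obtain ⟨ψ, hψ, hψi, -⟩ := exists_map_to_fullyNormalized hS hF hQn hQ
  have hPN : P ≤ normalizerIn S (P ⊓ T) := fun y hy => by
    haveI := finite_of_le hQS
    exact ⟨hPS hy, mem_normalizer_of_maps fun q hq =>
      ⟨mul_mem (mul_mem hy hq.1) (Subgroup.inv_mem _ hy), conj_mem_closed hT (hPS hy) hq.2⟩⟩
  have hψP : IsIso F P (imgSub ψ P) ψ := (hψ.mono hPN).isIso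
  set P₁ := imgSub ψ P with hP₁
  have hQeq : Q = P₁ ⊓ T := hψi.eq_imgSub.trans (inf_iso hT hψP).eq_imgSub.symm
  have hP₁S : P₁ ≤ S := hψP.target_le
  haveI := finite_of_le hP₁S
  have hx₀P : g c ∉ P₁ := fun h => hx₀Q (hQeq.ge ⟨h, hx₀T⟩)
  set W := centralizerIn T Q with hW
  have hWS : W ≤ S := centralizerIn_le.trans hT.1
  haveI := finite_of_le hWS
  have hP₁W : P₁ ≤ Subgroup.normalizer (W : Set Ω) := fun y hy => mem_normalizer_of_maps fun w hw => by
    obtain ⟨hwT, hwc⟩ := FusionSys.mem_centralizerIn.1 hw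
    refine FusionSys.mem_centralizerIn.2 ⟨conj_mem_closed hT (hP₁S hy) hwT, fun q hq => ?_⟩
    have hq' : y⁻¹ * q * y ∈ Q := by
      have h1 := hQeq.le hq
      refine hQeq.ge ⟨mul_mem (mul_mem (Subgroup.inv_mem _ hy) h1.1) hy, ?_⟩
      have := conj_mem_closed hT (S.inv_mem (hP₁S hy)) h1.2
      rwa [inv_inv] at this
    calc q * (y * w * y⁻¹) = y * ((y⁻¹ * q * y) * w) * y⁻¹ := by group
      _ = y * (w * (y⁻¹ * q * y)) * y⁻¹ := by rw [hwc _ hq']
      _ = _ := by group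
  set H := P₁ ⊔ W with hH
  have hHS : H ≤ S := sup_le hP₁S hWS
  haveI := finite_of_le hHS
  have hlt : P₁ < H := lt_of_le_of_ne le_sup_left fun he =>
    hx₀P (he ▸ Subgroup.mem_sup_right (FusionSys.mem_centralizerIn.2 ⟨hx₀T, hx₀c⟩))
  obtain ⟨n, hnN, hnP⟩ := SetLike.exists_of_lt (lt_inf_normalizer_of_lt (hS.to_le hHS) hlt)
  obtain ⟨y, hy, w, hw, rfl⟩ : ∃ y ∈ P₁, ∃ w ∈ W, y * w = n := by
    have h1 : n ∈ ((P₁ ⊔ W : Subgroup Ω) : Set Ω) := hnN.1
    rw [Subgroup.coe_mul_of_left_le_normalizer_right P₁ W hP₁W] at h1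
    exact Set.mem_mul.1 h1
  have hwn : w ∈ Subgroup.normalizer (P₁ : Set Ω) := by
    have := mul_mem (inv_mem (Subgroup.le_normalizer hy)) hnN.2
    rwa [inv_mul_cancel_left] at this
  have hwP : w ∉ P₁ := fun h => hnP (mul_mem hy h)
  -- back to `P`
  obtain ⟨k, hk, hki, -⟩ := exists_map_to_fullyNormalized hS hF hn (isConj_symm hψP.isConj)
  have hwN : w ∈ normalizerIn S P₁ := ⟨hWS hw, hwn⟩
  have hPN₁ : P₁ ≤ normalizerIn S P₁ := le_normalizerIn_self hP₁S
  obtain ⟨hwT, hwc⟩ := FusionSys.mem_centralizerIn.1 hw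
  refine ⟨k w, mem_wing.2 ⟨⟨mem_of_stronglyClosed hT hk hwN hwT, fun q hq => ?_⟩,
    (hki.mem_normalizerIn_of_extends hk hPN₁ (fun _ _ => rfl) hwN hwn).2⟩, fun h => ?_⟩
  · obtain ⟨r, hr, rfl⟩ := (inf_iso hT hki).exists_preimage hq
    rw [← hk.map_mul (hPN₁ hr.1) hwN, ← hk.map_mul hwN (hPN₁ hr.1), hwc r (hQeq.ge hr)]
  · obtain ⟨r, hr, hre⟩ := hki.exists_preimage h
    exact hwP (hk.injOn (hPN₁ hr) hwN hre ▸ hr)

theorem plus_inf_lt (hS : IsPGroup p S) (hE : E.IsNormalIn F p) {P : Subgroup Ω}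
    (hn : F.IsFullyNormalized P) (hnb : ¬ Ctr F T (P ⊓ T)) : P ⊓ T < plus T P ⊓ T := by
  obtain ⟨w, hw, hwP⟩ := exists_wing hS hE hn hnb
  exact lt_of_le_of_ne (inf_le_inf_right T (le_plus P)) fun he =>
    hwP (he.ge ⟨Subgroup.mem_sup_right hw, wing_le_T P hw⟩).1

/-- Outside the base case, membership at a fully normalized subgroup is decided on the wing. -/
theorem good_plus (hS : IsPGroup p S) (hE : E.IsNormalIn F p) {P : Subgroup Ω}
    (hn : F.IsFullyNormalized P) (hnb : ¬ Ctr F T (P ⊓ T)) {α : MulAut P} (h : Good F E P α) :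
    ∃ G, Good F E (plus T P) G ∧ ∀ y ∈ P, autMap G y = autMap α y := by
  cases h with
  | base hb _ _ _ => exact absurd hb hnb
  | @step _ P' _ f G _ hf hn' hG he =>
    obtain ⟨v, hv, hvf, -⟩ := hf.exists_symm
    obtain ⟨g, hg, hge⟩ := exists_plus_iso hS hE hv hn' hn
    refine ⟨hg.autEquiv G, hG.transport hE hg, fun y hy => ?_⟩
    have h1 := hg.autMap_autEquiv G (le_plus P' (hf.mem hy))
    rw [hge _ (hf.mem hy), hvf y hy, he y hy, hge _ (hf.mem (autMap_mem α hy)),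
      hvf _ (autMap_mem α hy)] at h1
    exact h1

/-- The identity is good. -/
theorem good_one (hS : IsPGroup p S) (hE : E.IsNormalIn F p) {P : Subgroup Ω} (hP : Cls F T P) :
    Good F E P 1 := by
  have hF := hE.1.2.1
  have hT := hE.1.2.2.2.1
  induction hk : Nat.card T - Nat.card (P ⊓ T : Subgroup Ω) using Nat.strong_induction_on
    generalizing P with
  | _ k ih =>
  by_cases hb : Ctr F T (P ⊓ T)
  · exact Good.base hb (one_mem _) (fun y hy => by
      rw [FusionSys.autMap_one hy, inv_mul_cancel]; exact T.one_mem)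
      ((isMap_id E inf_le_right).congr fun x hx => FusionSys.autMap_one hx.1)
  · obtain ⟨P', hP', hn⟩ := exists_isFullyNormalized F hP.1
    obtain ⟨f, hf⟩ := isConj_iff.1 hP'
    have hnb' : ¬ Ctr F T (P' ⊓ T) := fun h => hb ((ctr_inf_iff hT hf).2 h)
    haveI : Finite T := finite_of_le hT.1
    haveI := finite_of_le (inf_le_right : plus T P' ⊓ T ≤ T) (S := T)
    have hlt := plus_inf_lt hS hE hn hnb'
    refine Good.step hb hf hn (G := 1) (ih _ ?_ ((hP.map hf).plus' hT) rfl) fun y hy => by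
      rw [FusionSys.autMap_one (le_plus P' (hf.mem hy)), FusionSys.autMap_one hy]
    have h1 : Nat.card (P ⊓ T : Subgroup Ω) < Nat.card (plus T P' ⊓ T : Subgroup Ω) :=
      (inf_iso hT hf).card_eq ▸ Cfsg.Agent.H89.card_lt_card_of_lt hlt
    have h2 : Nat.card (plus T P' ⊓ T : Subgroup Ω) ≤ Nat.card T := Subgroup.card_le_of_le inf_le_right
    omega

/-- Products of good automorphisms are good. -/
theorem Good.mul (hS : IsPGroup p S) (hE : E.IsNormalIn F p) {P : Subgroup Ω} (hP : Cls F T P)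
    {α β : MulAut P} (hα : Good F E P α) (hβ : Good F E P β) : Good F E P (α * β) := by
  have hF := hE.1.2.1
  have hT := hE.1.2.2.2.1
  induction hk : Nat.card T - Nat.card (P ⊓ T : Subgroup Ω) using Nat.strong_induction_on
    generalizing P with
  | _ k ih =>
  obtain ⟨a1, a2, a3⟩ := hα.spec hE
  obtain ⟨b1, b2, b3⟩ := hβ.spec hE
  by_cases hb : Ctr F T (P ⊓ T)
  · have hbm := (mem_autGroup_iff hP.1).1 b1
    refine Good.base hb (mul_mem a1 b1) (fun y hy => ?_) ((b3.comp a3 fun x hx =>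
      ⟨autMap_mem β hx.1, mem_of_stronglyClosed hT hbm hx.1 hx.2⟩).congr fun x hx => autMap_mul α β hx.1)
    have := T.mul_mem (b2 y hy) (a2 _ (autMap_mem β hy))
    rwa [mul_assoc, mul_inv_cancel_left, ← autMap_mul α β hy] at this
  · obtain ⟨P', hP', hn⟩ := exists_isFullyNormalized F hP.1
    obtain ⟨f, hf⟩ := isConj_iff.1 hP'
    have hnb' : ¬ Ctr F T (P' ⊓ T) := fun h => hb ((ctr_inf_iff hT hf).2 h)
    obtain ⟨G₁, hG₁, e₁⟩ := good_plus hS hE hn hnb' (hα.transport hE hf)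
    obtain ⟨G₂, hG₂, e₂⟩ := good_plus hS hE hn hnb' (hβ.transport hE hf)
    haveI : Finite T := finite_of_le hT.1
    haveI := finite_of_le (inf_le_right : plus T P' ⊓ T ≤ T) (S := T)
    have hlt := plus_inf_lt hS hE hn hnb'
    refine Good.step hb hf hn (G := G₁ * G₂) (ih _ ?_ ((hP.map hf).plus' hT) hG₁ hG₂ rfl) fun y hy => by
      rw [autMap_mul _ _ (le_plus P' (hf.mem hy)), e₂ _ (hf.mem hy), hf.autMap_autEquiv β hy,
        e₁ _ (hf.mem (autMap_mem β hy)), hf.autMap_autEquiv α (autMap_mem β hy), autMap_mul α β hy]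
    have h1 : Nat.card (P ⊓ T : Subgroup Ω) < Nat.card (plus T P' ⊓ T : Subgroup Ω) :=
      (inf_iso hT hf).card_eq ▸ Cfsg.Agent.H89.card_lt_card_of_lt hlt
    have h2 : Nat.card (plus T P' ⊓ T : Subgroup Ω) ≤ Nat.card T := Subgroup.card_le_of_le inf_le_right
    omega

/-- The subgroup of good automorphisms. -/
def goodSub (hS : IsPGroup p S) (hE : E.IsNormalIn F p) {P : Subgroup Ω} (hP : Cls F T P) :
    Subgroup (MulAut P) :=
  haveI := finite_mulAut_of_le hP.1
  finSub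
    { carrier := {a | Good F E P a}
      one_mem' := good_one hS hE hP
      mul_mem' := fun ha hb => Good.mul hS hE hP ha hb }

/-- An automorphism of order prime to `p` differing from a good one by a periodic one is good. -/
theorem good_of_periodic (hS : IsPGroup p S) (hE : E.IsNormalIn F p) {P : Subgroup Ω} (hP : Cls F T P)
    {α β δ : MulAut P} (hα : Good F E P α) (hδ : δ ∈ F.autGroup P) {n : ℕ} (hn : δ ^ p ^ n = 1)
    (he : β = α * δ) (hco : (orderOf β).Coprime p) : Good F E P β := by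
  refine mem_of_mul_periodic (K := goodSub hS hE hP) hα (fun j x hx => ?_) he (hn ▸ one_mem _) hco
  have hi := isIso_autMap hP.1 (pow_mem hδ j)
  have h1 : hi.autEquiv x = δ ^ j * x * (δ ^ j)⁻¹ := aut_ext fun y hy => by
    obtain ⟨z, hz, rfl⟩ := hi.exists_preimage hy
    rw [hi.autMap_autEquiv x hz, autMap_mul _ _ (autMap_mem _ hz),
      S5114.inv_autMap_apply _ hz, autMap_mul _ _ hz]
  exact h1 ▸ Good.transport hE hi hx

end Cfsg.Agent.Signalizer.EBal
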