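import Cfsg.Agent.Signalizer.EBal.Good
import Cfsg.Agent.H89.Gen.Meet

/-!
An automorphism of order prime to `p` is good if and only if its restriction to an invariant member of the
class is, for `P ≤ R ≤ P (R ∩ T)`.
-/

set_option autoImplicit false
set_option linter.style.haveILetI false
set_option linter.unusedSectionVars false

namespace Cfsg.Agent.Signalizer.EBal

open Cfsg Cfsg.FusionSystem Cfsg.Agent.FusionSys Cfsg.Agent.H91.CentFocal
open Cfsg.Agent.H91.CentSE (Ctr)
open Cfsg.Agent.H89 (mem_of_stronglyClosed card_lt_card_of_lt)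
open Cfsg.FusionSystem (centralizerIn normalizerIn)

universe u

variable {Ω : Type u} [Group Ω] {S T : Subgroup Ω} {F : FusionSystem S} {E : FusionSystem T} {p : ℕ}
variable [Finite S] [Fact p.Prime]

theorem orderOf_autEquiv {P R : Subgroup Ω} {h : Ω → Ω} (hh : IsIso F P R h) (α : MulAut P) :
    orderOf (hh.autEquiv α) = orderOf α :=
  MulEquiv.orderOf_eq hh.autEquiv α

theorem Good.of_transport (hE : E.IsNormalIn F p) {P R : Subgroup Ω} {h : Ω → Ω} (hh : IsIso F P R h)
    {α : MulAut P} (hα : Good F E R (hh.autEquiv α)) : Good F E P α := by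
  obtain ⟨v, hv, hvh, -⟩ := hh.exists_symm
  have he : hv.autEquiv (hh.autEquiv α) = α := aut_ext fun x hx => by
    have h1 := hv.autMap_autEquiv (hh.autEquiv α) (hh.mem hx)
    rw [hvh x hx, hh.autMap_autEquiv α hx, hvh _ (autMap_mem α hx)] at h1
    exact h1
  exact he ▸ hα.transport hE hv

/-- Normal extensions in `E` of automorphisms of order prime to `p` of a centric subgroup of `T`. -/
theorem up_base (hS : IsPGroup p S) (hE : E.IsNormalIn F p) {Q V : Subgroup Ω} (hQV : Q ≤ V) (hVT : V ≤ T)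
    (hC : Ctr F T Q) {G : MulAut V} (hG : G ∈ F.autGroup V) (hco : (orderOf G).Coprime p)
    (hm : ∀ x ∈ Q, autMap G x ∈ Q) (hx : IsMap E Q (autMap G)) : G ∈ E.autGroup V := by
  have hF := hE.1.2.1
  have hT := hE.1.2.2.2.1
  haveI : Finite T := finite_of_le hT.1
  haveI : Finite V := finite_of_le hVT
  induction hk : Nat.card V - Nat.card Q using Nat.strong_induction_on generalizing Q with
  | _ k ih =>
  rcases eq_or_lt_of_le hQV with rfl | hlt
  · exact mem_autGroup_of_isMap hx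
  have hQT := hQV.trans hVT
  have hVS := hVT.trans hT.1
  haveI : Finite Q := finite_of_le hQT
  set N := V ⊓ Subgroup.normalizer (Q : Set Ω) with hN
  have hQN : Q < N := lt_inf_normalizer_of_lt (hS.to_le hVS) hlt
  have hGV : IsMap F V (autMap G) := (mem_autGroup_iff hVS).1 hG
  have hQi : IsIso F Q Q (autMap G) := isIso_of_mapsTo (hGV.mono hQV) hm
  have hGN : ∀ x ∈ N, autMap G x ∈ N := fun x hx => ⟨autMap_mem G hx.1,
    (hQi.mem_normalizerIn_of_extends hGV hQV (fun _ _ => rfl) hx.1 hx.2).2⟩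
  obtain ⟨G₁, hG₁, hG₁e, hG₁o⟩ := exists_restrict hVS (inf_le_left : N ≤ V) hG hGN
  obtain ⟨Q', hQ', hn⟩ := exists_isFullyNormalized F (hQT.trans hT.1)
  obtain ⟨φ, hφ, hφi, hφn⟩ := exists_map_to_fullyNormalized hS hF hn hQ'
  have hNN : N ≤ normalizerIn S Q := fun x hx => ⟨hVS hx.1, hx.2⟩
  have hi : IsIso F N (imgSub φ N) φ := (hφ.mono hNN).isIso
  obtain ⟨x, hx', hxe⟩ := (isIso_of_mapsTo hx hm).exists_aut
  have hG₁' : hi.autEquiv G₁ ∈ E.autGroup (imgSub φ N) := by
    refine H89.Gen.mem_autGroup_of_coprime hS hE.1 hT le_rfl hn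
      (hC.of_isConj hQ' Q' (isConj_refl F hn.1)) (fun y hy => ?_) (fun y hy => ?_)
      (hi.autEquiv_mem_autGroup hG₁) ?_ (autEquiv_mem hE.1.2.2 hQT hφi hx') fun q hq => ?_
    · obtain ⟨z, hz, rfl⟩ := hφi.exists_preimage hy
      exact hi.mem (hQN.le hz)
    · obtain ⟨z, hz, rfl⟩ := hi.exists_preimage hy
      exact ⟨mem_of_stronglyClosed hT hφ (hNN hz) (hVT hz.1), (hφn z (hNN hz)).2⟩
    · rw [orderOf_autEquiv]
      exact hco.coprime_dvd_left hG₁o
    · obtain ⟨z, hz, rfl⟩ := hφi.exists_preimage hq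
      rw [hi.autMap_autEquiv G₁ (hQN.le hz), hφi.autMap_autEquiv x hz, hG₁e z (hQN.le hz),
        hxe z hz]
  obtain ⟨ψ, hψ, hψφ, -⟩ := hi.exists_symm
  have hNT : N ≤ T := inf_le_left.trans hVT
  have hN'T : imgSub φ N ≤ T := target_le_of_closed hT hNT hi
  have hb := autEquiv_mem hE.1.2.2 hN'T hψ hG₁'
  have hmapE : IsMap E N (autMap G) := ((mem_autGroup_iff hNT).1 hb).congr fun y hy => by
    have h1 := hψ.autMap_autEquiv (hi.autEquiv G₁) (hi.mem hy)
    rw [hψφ y hy, hi.autMap_autEquiv G₁ hy, hψφ _ (autMap_mem G₁ hy), hG₁e y hy] at h1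
    exact h1.symm
  refine ih _ ?_ inf_le_left (hC.mono hQN.le) hGN hmapE rfl
  haveI : Finite N := finite_of_le (inf_le_left : N ≤ V)
  have h1 := card_lt_card_of_lt hQN
  have h2 : Nat.card N ≤ Nat.card V := Subgroup.card_le_of_le inf_le_left
  simp only [hN] at h1 h2
  omega

/-- An element of the difference of two extensions lies in `P`. -/
theorem diff_mem (hT : F.StronglyClosed T) {P M : Subgroup Ω} (hP : Cls F T P) (hPM : P ≤ M) (hMS : M ≤ S)
    (hMn : M ≤ Subgroup.normalizer (P : Set Ω)) (hMT : M ≤ P ⊔ (M ⊓ T)) {δ : MulAut M}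
    (hδ : δ ∈ F.autGroup M) (hfix : ∀ x ∈ P, autMap δ x = x) : ∀ r ∈ M, r⁻¹ * autMap δ r ∈ P := by
  have hδm := (mem_autGroup_iff hMS).1 hδ
  intro r hr
  haveI := finite_of_le hP.1
  have hle : P ⊔ (M ⊓ T) ≤ M := sup_le hPM inf_le_left
  refine mod_of_sup (hδm.mono hle) (hle.trans hMn) (fun x hx => by
    rw [hfix x hx, inv_mul_cancel]; exact P.one_mem) (fun t ht => ?_) (hMT hr)
  refine hP.cent_le (FusionSys.mem_centralizerIn.2
    ⟨T.mul_mem (T.inv_mem ht.2) (mem_of_stronglyClosed hT hδm ht.1 ht.2), fun y hy => ?_⟩)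
  have hy' : t * y * t⁻¹ ∈ P := (Subgroup.mem_normalizer_iff.1 (hMn ht.1) y).1 hy
  have h1 := hδm.map_conj ht.1 (hPM hy)
  rw [hfix _ hy', hfix y hy] at h1
  calc y * (t⁻¹ * autMap δ t) = t⁻¹ * (t * y * t⁻¹) * autMap δ t := by group
    _ = _ := by rw [h1]; group

/-- Of two automorphisms of order prime to `p` agreeing on a member of the class, both or none are good. -/
theorem good_ext_eq (hS : IsPGroup p S) (hE : E.IsNormalIn F p) {P M : Subgroup Ω} (hP : Cls F T P)
    (hPM : P ≤ M) (hMS : M ≤ S) (hMn : M ≤ Subgroup.normalizer (P : Set Ω)) (hMT : M ≤ P ⊔ (M ⊓ T))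
    {a b : MulAut M} (hb : b ∈ F.autGroup M) (hco : (orderOf b).Coprime p)
    (he : ∀ x ∈ P, autMap b x = autMap a x) (ha : Good F E M a) : Good F E M b := by
  have hT := hE.1.2.2.2.1
  set δ := a⁻¹ * b with hδ
  have hδF : δ ∈ F.autGroup M := mul_mem (inv_mem (ha.spec hE).1) hb
  have hfix : ∀ x ∈ P, autMap δ x = x := fun x hx => by
    rw [hδ, autMap_mul _ _ (hPM hx), he x hx, S5114.inv_autMap_apply a (hPM hx)]
  haveI := finite_of_le hP.1
  obtain ⟨n, hn⟩ := IsPGroup.iff_card.1 (hS.to_le hP.1)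
  exact good_of_periodic hS hE (hP.mono hPM hMS) ha hδF (n := n)
    (hn ▸ pow_card_eq_one_of_moves hMS hPM hδF hfix (diff_mem hT hP hPM hMS hMn hMT hδF hfix))
    (by rw [hδ, mul_inv_cancel_left]) hco

/-- The main property of goodness. -/
theorem good_iff (hS : IsPGroup p S) (hE : E.IsNormalIn F p) {P R : Subgroup Ω} (hP : Cls F T P)
    (hPR : P ≤ R) (hRT : R ≤ P ⊔ (R ⊓ T)) {G : MulAut R} (hG : G ∈ F.autGroup R)
    (hco : (orderOf G).Coprime p) {α : MulAut P} (he : ∀ x ∈ P, autMap α x = autMap G x) :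
    Good F E P α ↔ Good F E R G := by
  have hF := hE.1.2.1
  have hT := hE.1.2.2.2.1
  haveI : Finite T := finite_of_le hT.1
  induction hk : Nat.card T - Nat.card (P ⊓ T : Subgroup Ω) using Nat.strong_induction_on
    generalizing P R with
  | _ k ih =>
  have hPS := hP.1
  have hRS : R ≤ S := hRT.trans (sup_le hPS (inf_le_right.trans hT.1))
  haveI := finite_of_le hPS
  haveI := finite_of_le hRS
  have hGm := (mem_autGroup_iff hRS).1 hG
  have hGP : ∀ x ∈ P, autMap G x ∈ P := fun x hx => he x hx ▸ autMap_mem α hx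
  by_cases hb : Ctr F T (P ⊓ T)
  · -- the base case
    have hQV : P ⊓ T ≤ R ⊓ T := inf_le_inf_right T hPR
    constructor
    · intro h
      obtain ⟨-, hmod, hmE⟩ := h.spec hE
      have hGV : ∀ x ∈ R ⊓ T, autMap G x ∈ R ⊓ T := fun x hx =>
        ⟨autMap_mem G hx.1, mem_of_stronglyClosed hT hGm hx.1 hx.2⟩
      obtain ⟨g, hg, hge, hgo⟩ := exists_restrict hRS (inf_le_left : R ⊓ T ≤ R) hG hGV
      have hgE := up_base hS hE hQV inf_le_right hb hg (hco.coprime_dvd_left hgo)
        (fun x hx => by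
          rw [hge x (hQV hx)]
          exact ⟨hGP x hx.1, (hGV x (hQV hx)).2⟩)
        (hmE.congr fun x hx => by rw [hge x (hQV hx), he x hx.1])
      refine Good.base (hb.mono hQV) hG (fun y hy => ?_)
        (((mem_autGroup_iff inf_le_right).1 hgE).congr fun x hx => (hge x hx).symm)
      have hle : P ⊔ (R ⊓ T) ≤ R := sup_le hPR inf_le_left
      refine mod_of_sup (hGm.mono hle) (fun s hs => ?_) (fun x hx => he x hx ▸ hmod x hx)
        (fun t ht => T.mul_mem (T.inv_mem ht.2) (hGV t ht).2) (hRT hy)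
      haveI : Finite T := finite_of_le hT.1
      exact mem_normalizer_of_maps fun t ht => conj_mem_closed hT (hRS (hle hs)) ht
    · intro h
      obtain ⟨-, hmod, hmE⟩ := h.spec hE
      exact Good.base hb (mem_autGroup_of_isMap ((hGm.mono hPR).congr he))
        (fun y hy => he y hy ▸ hmod y (hPR hy)) ((hmE.mono hQV).congr fun x hx => he x hx.1)
  by_cases hRP : R ≤ P
  · obtain rfl : P = R := le_antisymm hPR hRP
    obtain rfl : α = G := aut_ext he
    exact Iff.rfl
  -- elements of `R` are products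
  have hsplit : ∀ r ∈ R, ∃ q ∈ P, ∃ t ∈ R ⊓ T, q * t = r := fun r hr => by
    haveI := finite_of_le (inf_le_left : R ⊓ T ≤ R)
    have hn : P ≤ Subgroup.normalizer ((R ⊓ T : Subgroup Ω) : Set Ω) := fun q hq =>
      mem_normalizer_of_maps fun t ht => ⟨R.mul_mem (R.mul_mem (hPR hq) ht.1) (R.inv_mem (hPR hq)),
        conj_mem_closed hT (hPS hq) ht.2⟩
    have h1 : r ∈ ((P ⊔ (R ⊓ T) : Subgroup Ω) : Set Ω) := hRT hr
    rw [Subgroup.coe_mul_of_left_le_normalizer_right P _ hn] at h1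
    exact Set.mem_mul.1 h1
  set P₁ := R ⊓ Subgroup.normalizer (P : Set Ω) with hP₁
  have hPP₁ : P < P₁ :=
    lt_inf_normalizer_of_lt (hS.to_le hRS) (lt_of_le_of_ne hPR fun h => hRP h.ge)
  have hP₁T : P₁ ≤ P ⊔ (P₁ ⊓ T) := fun r hr => by
    obtain ⟨q, hq, t, ht, rfl⟩ := hsplit r hr.1
    refine mul_mem (Subgroup.mem_sup_left hq) (Subgroup.mem_sup_right ⟨⟨ht.1, ?_⟩, ht.2⟩)
    have := mul_mem (inv_mem (Subgroup.le_normalizer hq)) hr.2
    rwa [inv_mul_cancel_left] at this
  have hlt : ∀ {M : Subgroup Ω}, P ⊓ T < M ⊓ T →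
      Nat.card T - Nat.card (M ⊓ T : Subgroup Ω) < k := fun {M} h => by
    haveI := finite_of_le (inf_le_right : M ⊓ T ≤ T)
    have h1 := card_lt_card_of_lt h
    have h2 : Nat.card (M ⊓ T : Subgroup Ω) ≤ Nat.card T := Subgroup.card_le_of_le inf_le_right
    omega
  have hPi : IsIso F P P (autMap G) := isIso_of_mapsTo (hGm.mono hPR) hGP
  obtain ⟨G₁, hG₁, hG₁e, hG₁o⟩ := exists_restrict hRS (inf_le_left : P₁ ≤ R) hG fun x hx =>
    ⟨autMap_mem G hx.1, (hPi.mem_normalizerIn_of_extends hGm hPR (fun _ _ => rfl) hx.1 hx.2).2⟩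
  have hP₁lt : P ⊓ T < P₁ ⊓ T := lt_of_le_of_ne (inf_le_inf_right T hPP₁.le) fun h =>
    hPP₁.not_ge (hP₁T.trans (sup_le le_rfl (h.ge.trans inf_le_left)))
  have hup : Good F E P₁ G₁ ↔ Good F E R G := by
    refine ih _ (hlt hP₁lt) (hP.mono hPP₁.le (inf_le_left.trans hRS)) inf_le_left
      (fun r hr => ?_) hG hco hG₁e rfl
    exact sup_le_sup_right hPP₁.le _ (hRT hr)
  rw [← hup]
  -- `P` fully normalized
  obtain ⟨P', hP', hn⟩ := exists_isFullyNormalized F hPS
  obtain ⟨φ, hφ, hφi, hφn⟩ := exists_map_to_fullyNormalized hS hF hn hP'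
  have hP₁N : P₁ ≤ normalizerIn S P := fun x hx => ⟨hRS hx.1, hx.2⟩
  have hi : IsIso F P₁ (imgSub φ P₁) φ := (hφ.mono hP₁N).isIso
  set R' := imgSub φ P₁ with hR'
  have hR'S : R' ≤ S := hi.target_le
  set α' := hφi.autEquiv α with hα'
  set b := hi.autEquiv G₁ with hbdef
  have hab : ∀ y ∈ P', autMap b y = autMap α' y := fun y hy => by
    obtain ⟨x, hx, rfl⟩ := hφi.exists_preimage hy
    rw [hbdef, hi.autMap_autEquiv G₁ (hPP₁.le hx), hα', hφi.autMap_autEquiv α hx, he x hx,
      hG₁e x (hPP₁.le hx)]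
  have key : Good F E P' α' ↔ Good F E R' b := by
    have hnb : ¬ Ctr F T (P' ⊓ T) := fun h => hb ((ctr_inf_iff hT hφi).2 h)
    have hP'C : Cls F T P' := hP.map hφi
    have hR'n : R' ≤ normalizerIn S P' := fun y hy => by
      obtain ⟨x, hx, rfl⟩ := hi.exists_preimage hy
      exact hφn x (hP₁N hx)
    have hP'R' : P' ≤ R' := fun y hy => by
      obtain ⟨x, hx, rfl⟩ := hφi.exists_preimage hy
      exact hi.mem (hPP₁.le hx)
    have hR'T : R' ≤ P' ⊔ (R' ⊓ T) := fun y hy => by
      obtain ⟨x, hx, rfl⟩ := hi.exists_preimage hy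
      refine (hφ.mono ((sup_le hPP₁.le inf_le_left).trans hP₁N) : IsMap F (P ⊔ (P₁ ⊓ T)) φ).mapsTo_sup
        (C := P' ⊔ (R' ⊓ T)) (fun z hz => Subgroup.mem_sup_left (hφi.mem hz))
        (fun z hz => Subgroup.mem_sup_right
          ⟨hi.mem hz.1, mem_of_stronglyClosed hT (hφ.mono hP₁N) hz.1 hz.2⟩) (hP₁T hx)
    have hbF : b ∈ F.autGroup R' := hi.autEquiv_mem_autGroup hG₁
    have hbco : (orderOf b).Coprime p := by
      rw [hbdef, orderOf_autEquiv]
      exact hco.coprime_dvd_left hG₁o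
    have hbm := (mem_autGroup_iff hR'S).1 hbF
    haveI := finite_of_le hR'S
    haveI := finite_of_le hn.1
    have hi' : IsIso F P' P' (autMap α') :=
      isIso_of_mapsTo ((hbm.mono hP'R').congr fun x hx => (hab x hx).symm) fun x hx => autMap_mem α' hx
    have hα'co : (orderOf α').Coprime p := by
      obtain ⟨r, -, hre, hro⟩ := exists_restrict hR'S hP'R' hbF fun x hx => hab x hx ▸ autMap_mem α' hx
      rw [show α' = r from aut_ext fun x hx => by rw [hre x hx, hab x hx]]
      exact hbco.coprime_dvd_left hro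
    -- the extension to `M`
    set M := R' ⊔ plus T P' with hM
    have hMS : M ≤ S := sup_le hR'S (plus_le_S hT.1 hn.1)
    have hMn : M ≤ Subgroup.normalizer (P' : Set Ω) :=
      sup_le (fun y hy => (hR'n hy).2) (plus_le_normalizer P')
    obtain ⟨g, hg, hge⟩ := receptive_extend (receptive_of_isFullyNormalized hS hF hn) hi' (N := M)
      (inExt_sup hi'.isMap (fun y hy => hbm.inExt_of_extends hP'R' (fun x hx => hab x hx) hy (hR'n hy).2)
        (inExt_sup hi'.isMap (fun y hy => hi'.isMap.inExt_of_mem hy)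
          fun w hw => wing_inExt hS hE hi' hn hw))
    replace hg : IsMap F M g := hg.mono le_sup_left
    have hP'M : P' ≤ M := hP'R'.trans le_sup_left
    have hgR : ∀ y ∈ R', g y ∈ R' := fun y hy => by
      refine (hg.mono ((sup_le hP'R' inf_le_left).trans le_sup_left) :
        IsMap F (P' ⊔ (R' ⊓ T)) g).mapsTo_sup
        (fun x hx => hge x hx ▸ hP'R' (autMap_mem α' hx)) (fun t ht => ?_) (hR'T hy)
      have htM : t ∈ M := Subgroup.mem_sup_left ht.1
      have hgt : g t ∈ T := mem_of_stronglyClosed hT hg htM ht.2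
      have hbt : autMap b t ∈ T := mem_of_stronglyClosed hT hbm ht.1 ht.2
      have h1 : (g t)⁻¹ * autMap b t ∈ P' := hP'C.cent_le (FusionSys.mem_centralizerIn.2
        ⟨T.mul_mem (T.inv_mem hgt) hbt, fun z hz => by
          obtain ⟨x, hx, rfl⟩ := hi'.exists_preimage hz
          have hx' : t * x * t⁻¹ ∈ P' := (Subgroup.mem_normalizer_iff.1 (hR'n ht.1).2 x).1 hx
          have e1 := hbm.map_conj ht.1 (hP'R' hx)
          rw [hab _ hx', ← hge _ hx', hg.map_conj htM (hP'M hx), hge x hx, hab x hx] at e1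
          calc autMap α' x * ((g t)⁻¹ * autMap b t)
              = (g t)⁻¹ * (g t * autMap α' x * (g t)⁻¹) * autMap b t := by group
            _ = _ := by rw [e1]; group⟩)
      have := R'.mul_mem (autMap_mem b ht.1) (R'.inv_mem (hP'R' h1))
      rwa [_root_.mul_inv_rev, inv_inv, mul_inv_cancel_left] at this
    have hgplus : ∀ y ∈ plus T P', g y ∈ plus T P' := by
      intro y hy
      refine (hg.mono (le_sup_right : plus T P' ≤ M) : IsMap F (plus T P') g).mapsTo_sup
        (fun x hx => le_plus P' (hge x hx ▸ autMap_mem α' hx)) (fun w hw => ?_) hy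
      obtain ⟨⟨hwT, hwc⟩, hwn⟩ := mem_wing.1 hw
      have hwM : w ∈ M := Subgroup.mem_sup_right (Subgroup.mem_sup_right hw)
      refine Subgroup.mem_sup_right (mem_wing.2 ⟨⟨mem_of_stronglyClosed hT hg hwM hwT, fun q hq => ?_⟩,
        (hi'.mem_normalizerIn_of_extends hg hP'M hge hwM hwn).2⟩)
      obtain ⟨x, hx, rfl⟩ := (inf_iso hT hi').exists_preimage hq
      rw [← hge x hx.1, ← hg.map_mul (hP'M hx.1) hwM, ← hg.map_mul hwM (hP'M hx.1), hwc x hx]
    haveI := finite_of_le hMS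
    have hgM : ∀ y ∈ M, g y ∈ M := fun y hy => hg.mapsTo_sup
      (fun x hx => Subgroup.mem_sup_left (hgR x hx)) (fun x hx => Subgroup.mem_sup_right (hgplus x hx)) hy
    obtain ⟨H, hH, hHco, hHe, j, hHj⟩ := exists_pPrime_aut hg hgM hP'M hα'co hge
    have hRM : R' ≤ M := le_sup_left
    have hpM : plus T P' ≤ M := le_sup_right
    obtain ⟨a, ha, hae, hao⟩ := exists_restrict hMS hpM hH fun y hy => by
      rw [hHj y (hpM hy)]; exact iterate_mem hgplus j hy
    obtain ⟨c, hc, hce, hco'⟩ := exists_restrict hMS hRM hH fun y hy => by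
      rw [hHj y (hRM hy)]; exact iterate_mem hgR j hy
    have hpS := plus_le_S hT.1 hn.1
    -- from `P'` to the wing
    have h1 : Good F E P' α' ↔ Good F E (plus T P') a := by
      refine ⟨fun h => ?_, fun h => Good.step hnb (isIso_id F hn.1) hn h fun y hy => ?_⟩
      · obtain ⟨G₂, hG₂, hG₂e⟩ := good_plus hS hE hn hnb h
        refine good_ext_eq hS hE hP'C (le_plus P') hpS (plus_le_normalizer P') (plus_le_sup P') ha
          (hHco.coprime_dvd_left hao) (fun x hx => ?_) hG₂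
        rw [hae x (le_plus P' hx), hHe x hx, hG₂e x hx]
      · simp only [id]
        rw [hae y (le_plus P' hy), hHe y hy]
    have hlt' : ∀ {N : Subgroup Ω}, P' ⊓ T < N ⊓ T →
        Nat.card T - Nat.card (N ⊓ T : Subgroup Ω) < k := fun {N} h => by
      haveI := finite_of_le (inf_le_right : N ⊓ T ≤ T)
      have h1 := card_lt_card_of_lt h
      have h2 : Nat.card (N ⊓ T : Subgroup Ω) ≤ Nat.card T := Subgroup.card_le_of_le inf_le_right
      have h3 := (inf_iso hT hφi).card_eq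
      omega
    have h2 : Good F E (plus T P') a ↔ Good F E M H := by
      refine ih _ (hlt' (plus_inf_lt hS hE hn hnb)) (hP'C.plus' hT) hpM (sup_le ?_ le_sup_left) hH hHco
        hae rfl
      exact hR'T.trans (sup_le_sup (le_plus P') (inf_le_inf_right T hRM))
    have h3 : Good F E R' c ↔ Good F E M H := by
      refine ih _ (hlt' (lt_of_le_of_ne (inf_le_inf_right T hP'R') fun h => ?_)) (hP'C.mono hP'R' hR'S) hRM
        (sup_le le_sup_left ((plus_le_sup P').trans (sup_le_sup hP'R' (inf_le_inf_right T hpM))))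
        hH hHco hce rfl
      have hle : R' ≤ P' := hR'T.trans (sup_le le_rfl (h.ge.trans inf_le_left))
      obtain ⟨x, hx, hxP⟩ := SetLike.exists_of_lt hPP₁
      obtain ⟨z, hz, hze⟩ := hφi.exists_preimage (hle (hi.mem hx))
      exact hxP ((hφ.mono hP₁N).injOn (hPP₁.le hz) hx hze ▸ hz)
    have h4 : Good F E R' c ↔ Good F E R' b := by
      have hR'nn : R' ≤ Subgroup.normalizer (P' : Set Ω) := fun y hy => (hR'n hy).2
      have e : ∀ x ∈ P', autMap c x = autMap α' x := fun x hx => by rw [hce x (hP'R' hx), hHe x hx]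
      exact ⟨fun h => good_ext_eq hS hE hP'C hP'R' hR'S hR'nn hR'T hbF hbco
          (fun x hx => by rw [hab x hx, e x hx]) h,
        fun h => good_ext_eq hS hE hP'C hP'R' hR'S hR'nn hR'T hc (hHco.coprime_dvd_left hco')
          (fun x hx => by rw [hab x hx, e x hx]) h⟩
    exact h1.trans (h2.trans (h3.symm.trans h4))
  exact ⟨fun h => (key.1 (h.transport hE hφi)).of_transport hE hi,
    fun h => (key.2 (h.transport hE hi)).of_transport hE hφi⟩

end Cfsg.Agent.Signalizer.EBal
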