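import Cfsg.Agent.Signalizer.EBal.Focal
import Cfsg.Agent.Signalizer.EBal.GenA.Sat
import Cfsg.Agent.H90.NormalizerSystem
import Cfsg.Agent.H89.Gen.Exponent

/-!
For a normal subsystem `E` over `T` and the normalizer system `N` of a fully normalized `X`, the automorphisms
of subgroups `Q` of `C_T(X)` lifting to good automorphisms of `Q X` fixing `X` satisfy the hypotheses of the
generation construction in `N`.
-/

set_option autoImplicit false
set_option linter.style.haveILetI false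
set_option linter.unusedSectionVars false
set_option maxHeartbeats 1000000

namespace Cfsg.Agent.Signalizer.EBal

open Cfsg Cfsg.FusionSystem Cfsg.Agent.FusionSys Cfsg.Agent.H91.CentFocal
open Cfsg.Agent.H91.CentSE (Ctr)
open Cfsg.Agent.H89 (mem_of_stronglyClosed)
open Cfsg.Agent.H89.Lift (nSub mem_nSub nSub_le le_nSub)
open Cfsg.Agent.H89.Gen (InH agree_pow exists_exp pow_self_of_mod)
open Cfsg.Agent.Signalizer.FusComp (fixGroup)
open Cfsg.Agent.H48 (IsSylowIn)
open Cfsg.FusionSystem (centralizerIn normalizerIn)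

universe u

variable {Ω : Type u} [Group Ω] {S T X : Subgroup Ω} {F : FusionSystem S} {E : FusionSystem T} {p : ℕ}
variable [Finite S] [Fact p.Prime] {N : FusionSystem (normalizerIn S X)}

theorem isMap_norm (hXS : X ≤ S) (hN : F.IsNormalizerSystem X N) {P : Subgroup Ω} {f : Ω → Ω} :
    IsMap N P f ↔ P ≤ normalizerIn S X ∧ (∀ x ∈ P, f x ∈ normalizerIn S X) ∧
      ∃ g, IsMap F (P ⊔ X) g ∧ (∀ x ∈ P, g x = f x) ∧ ∀ z ∈ X, g z ∈ X := by
  constructor
  · rintro ⟨φ, hφ, hφf⟩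
    rw [hN P] at hφ
    obtain ⟨-, h2, h3, ψ, hψ, he, hm⟩ := (H90.mem_normalizerHom_iff F hXS).1 hφ
    refine ⟨h2, fun x hx => hφf ⟨x, hx⟩ ▸ h3 ⟨x, hx⟩, homFun ψ, isMap_of_mem hψ, fun x hx => ?_,
      fun z hz => ?_⟩
    · rw [homFun_mem ψ (Subgroup.mem_sup_left hx), ← hφf ⟨x, hx⟩, ← he ⟨x, hx⟩]
      rfl
    · rw [homFun_mem ψ (Subgroup.mem_sup_right hz)]
      exact hm ⟨z, hz⟩
  · rintro ⟨h2, h3, g, hg, he, hm⟩
    obtain ⟨φ, hφ, hφf⟩ := (hg.mono (le_sup_left : P ≤ P ⊔ X)).congr fun x hx => (he x hx).symm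
    obtain ⟨ψ, hψ, hψg⟩ := hg
    refine ⟨φ, ?_, hφf⟩
    rw [hN P]
    exact (H90.mem_normalizerHom_iff F hXS).2 ⟨hφ, h2, fun x => (hφf x).symm ▸ h3 x x.2, ψ, hψ,
      fun x => (hψg _).trans ((he x x.2).trans (hφf x).symm), fun z => (hψg _).symm ▸ hm z z.2⟩

theorem norm_sub (hXS : X ≤ S) (hN : F.IsNormalizerSystem X N) : N.IsSubsystemOf F :=
  isSubsystemOf_iff_isMap.2 fun P f h => by
    obtain ⟨-, -, g, hg, he, -⟩ := (isMap_norm hXS hN).1 h
    exact (hg.mono le_sup_left).congr fun x hx => (he x hx).symm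

theorem cent_le_norm (hT : T ≤ S) : centralizerIn T X ≤ normalizerIn S X := fun t ht => by
  obtain ⟨htT, htc⟩ := FusionSys.mem_centralizerIn.1 ht
  exact centralizerIn_le_normalizerIn (FusionSys.mem_centralizerIn.2 ⟨hT htT, htc⟩)

theorem closed_cent (hXS : X ≤ S) (hN : F.IsNormalizerSystem X N) (hT : F.StronglyClosed T) :
    N.StronglyClosed (centralizerIn T X) := by
  refine stronglyClosed_iff.2 ⟨cent_le_norm hT.1, fun R f hR hf x hx => ?_⟩
  obtain ⟨-, -, g, hg, he, hm⟩ := (isMap_norm hXS hN).1 hf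
  obtain ⟨hxT, hxc⟩ := FusionSys.mem_centralizerIn.1 (hR hx)
  rw [← he x hx]
  refine FusionSys.mem_centralizerIn.2
    ⟨mem_of_stronglyClosed hT hg (Subgroup.mem_sup_left hx) hxT, fun z hz => ?_⟩
  haveI := finite_of_le hXS
  obtain ⟨w, hw, rfl⟩ := (isIso_of_mapsTo (hg.mono le_sup_right) hm).exists_preimage hz
  rw [← hg.map_mul (Subgroup.mem_sup_right hw) (Subgroup.mem_sup_left hx),
    ← hg.map_mul (Subgroup.mem_sup_left hx) (Subgroup.mem_sup_right hw), hxc w hw]

theorem cls_sup (hS : IsPGroup p S) (hE : E.IsNormalIn F p) (hX : F.IsFullyNormalized X)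
    (hN : F.IsNormalizerSystem X N) {Q : Subgroup Ω} (hQ : InH N (centralizerIn T X) Q) :
    Cls F T (Q ⊔ X) := by
  have hF := hE.1.2.1
  have hT := hE.1.2.2.2.1
  have hXS := hX.1
  have hQN : Q ≤ normalizerIn S X := hQ.1.trans (cent_le_norm hT.1)
  have hPS : Q ⊔ X ≤ S := sup_le (hQN.trans normalizerIn_le) hXS
  refine ⟨hPS, fun P' hP' c hc => ?_⟩
  obtain ⟨f, hf⟩ := isConj_iff.1 hP'
  set X' := imgSub f X with hX'
  have hfX : IsIso F X X' f := (hf.isMap.mono le_sup_right).isIso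
  obtain ⟨χ, hχ, hχi, hχn⟩ := exists_map_to_fullyNormalized hS hF hX (isConj_symm hfX.isConj)
  have hP'N : P' ≤ normalizerIn S X' := fun y hy => by
    obtain ⟨x, hx, rfl⟩ := hf.exists_preimage hy
    exact hfX.mem_normalizerIn_of_extends hf.isMap le_sup_right (fun _ _ => rfl) hx
      ((sup_le hQN (le_normalizerIn_self hXS)) hx).2
  obtain ⟨hcT, hcc⟩ := FusionSys.mem_centralizerIn.1 hc
  have hX'P : X' ≤ P' := fun y hy => by
    obtain ⟨x, hx, rfl⟩ := hfX.exists_preimage hy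
    exact hf.mem (Subgroup.mem_sup_right hx)
  have hcN : c ∈ normalizerIn S X' := centralizerIn_le_normalizerIn
    (FusionSys.mem_centralizerIn.2 ⟨hT.1 hcT, fun y hy => hcc y (hX'P hy)⟩)
  have hχf : IsMap F (Q ⊔ X) (χ ∘ f) := hf.isMap.comp hχ fun x hx => hP'N (hf.mem hx)
  have hNQ : IsMap N Q (χ ∘ f) := (isMap_norm hXS hN).2 ⟨hQN,
    fun x hx => hχn _ (hP'N (hf.mem (Subgroup.mem_sup_left hx))), _, hχf, fun _ _ => rfl,
    fun z hz => hχi.mem (hfX.mem hz)⟩
  have hc' : χ c ∈ centralizerIn (centralizerIn T X) (imgSub (χ ∘ f) Q) := by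
    refine FusionSys.mem_centralizerIn.2 ⟨FusionSys.mem_centralizerIn.2
      ⟨mem_of_stronglyClosed hT hχ hcN hcT, fun z hz => ?_⟩, fun y hy => ?_⟩
    · obtain ⟨w, hw, rfl⟩ := hχi.exists_preimage hz
      rw [← hχ.map_mul (hP'N (hX'P hw)) hcN, ← hχ.map_mul hcN (hP'N (hX'P hw)), hcc w (hX'P hw)]
    · obtain ⟨x, hx, rfl⟩ := hNQ.mem_imgSub.1 hy
      have hfx := hf.mem (Subgroup.mem_sup_left hx)
      rw [Function.comp_apply, ← hχ.map_mul (hP'N hfx) hcN, ← hχ.map_mul hcN (hP'N hfx), hcc _ hfx]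
  obtain ⟨x, hx, hxe⟩ := hNQ.mem_imgSub.1 (hQ.2 _ hNQ.isIso.isConj hc')
  have hfx := hf.mem (Subgroup.mem_sup_left hx)
  exact hχ.injOn (hP'N hfx) hcN hxe ▸ hfx

/-- The automorphisms of `Q` lifting to good automorphisms of `Q X` fixing `X`. -/
def hfam (F : FusionSystem S) (E : FusionSystem T) (X Q : Subgroup Ω) : Subgroup (MulAut Q) :=
  Subgroup.closure {x | ∃ G : MulAut (Q ⊔ X : Subgroup Ω), Good F E (Q ⊔ X) G ∧
    (∀ z ∈ X, autMap G z = z) ∧ ∀ q ∈ Q, autMap G q = autMap x q}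

theorem lift_ext {Q : Subgroup Ω} (hS' : Q ⊔ X ≤ S) {a b : MulAut (Q ⊔ X : Subgroup Ω)}
    (ha : a ∈ F.autGroup (Q ⊔ X)) (hb : b ∈ F.autGroup (Q ⊔ X)) (h1 : ∀ q ∈ Q, autMap a q = autMap b q)
    (h2 : ∀ z ∈ X, autMap a z = autMap b z) : a = b :=
  aut_ext fun _ hy => ((mem_autGroup_iff hS').1 ha).eqOn_sup ((mem_autGroup_iff hS').1 hb) h1 h2 hy

theorem mem_hfam (hS : IsPGroup p S) (hE : E.IsNormalIn F p) {Q : Subgroup Ω} (hP : Cls F T (Q ⊔ X))
    {x : MulAut Q} (hx : x ∈ hfam F E X Q) : ∃ G : MulAut (Q ⊔ X : Subgroup Ω), Good F E (Q ⊔ X) G ∧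
      (∀ z ∈ X, autMap G z = z) ∧ ∀ q ∈ Q, autMap G q = autMap x q := by
  have hQ' : Q ≤ Q ⊔ X := le_sup_left
  have hX' : X ≤ Q ⊔ X := le_sup_right
  induction hx using Subgroup.closure_induction with
  | mem x hx => exact hx
  | one => exact ⟨1, good_one hS hE hP, fun z hz => FusionSys.autMap_one (hX' hz),
      fun q hq => by rw [FusionSys.autMap_one (hQ' hq), FusionSys.autMap_one hq]⟩
  | mul a b _ _ iha ihb =>
    obtain ⟨A, hA, hAX, hAQ⟩ := iha
    obtain ⟨B, hB, hBX, hBQ⟩ := ihb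
    exact ⟨A * B, hA.mul hS hE hP hB, fun z hz => by
      rw [autMap_mul _ _ (hX' hz), hBX z hz, hAX z hz], fun q hq => by
      rw [autMap_mul _ _ (hQ' hq), hBQ q hq, hAQ _ (autMap_mem b hq), autMap_mul _ _ hq]⟩
  | inv a _ iha =>
    obtain ⟨A, hA, hAX, hAQ⟩ := iha
    refine ⟨A⁻¹, (goodSub hS hE hP).inv_mem hA, fun z hz => ?_, fun q hq => ?_⟩
    · conv_lhs => rw [← hAX z hz]
      exact S5114.inv_autMap_apply A (hX' hz)
    · conv_lhs => rw [← autMap_inv_apply a hq, ← hAQ _ (autMap_mem a⁻¹ hq)]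
      exact S5114.inv_autMap_apply A (hQ' (autMap_mem a⁻¹ hq))

/-- The lift can be taken of order prime to `p`. -/
theorem exists_lift_coprime (hS : IsPGroup p S) (hE : E.IsNormalIn F p) {Q : Subgroup Ω}
    (hP : Cls F T (Q ⊔ X)) {x : MulAut Q} (hx : x ∈ hfam F E X Q) (hco : (orderOf x).Coprime p) :
    ∃ G : MulAut (Q ⊔ X : Subgroup Ω), Good F E (Q ⊔ X) G ∧ (orderOf G).Coprime p ∧
      (∀ z ∈ X, autMap G z = z) ∧ ∀ q ∈ Q, autMap G q = autMap x q := by
  obtain ⟨G, hG, hGX, hGQ⟩ := mem_hfam hS hE hP hx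
  haveI := finite_mulAut_of_le hP.1
  obtain ⟨e, he, hGe⟩ := exists_exp G hco
  refine ⟨G ^ e, (goodSub hS hE hP).pow_mem hG e, hGe, fun z hz => ?_, fun q hq => ?_⟩
  · have := (fixGroup (Q ⊔ X) X).pow_mem (x := G) (fun y _ hy => hGX y hy) e
    exact this z (Subgroup.mem_sup_right hz) hz
  · rw [agree_pow le_sup_left hGQ e q hq, pow_self_of_mod (pow_orderOf_eq_one x) he]

theorem hfam_le_aut (hS : IsPGroup p S) (hE : E.IsNormalIn F p) (hXS : X ≤ S)
    (hN : F.IsNormalizerSystem X N) {Q : Subgroup Ω} (hQN : Q ≤ normalizerIn S X)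
    (hP : Cls F T (Q ⊔ X)) : hfam F E X Q ≤ N.autGroup Q := fun x hx => by
  obtain ⟨G, hG, hGX, hGQ⟩ := mem_hfam hS hE hP hx
  exact mem_autGroup_of_isMap ((isMap_norm hXS hN).2 ⟨hQN, fun q hq => hQN (autMap_mem x hq),
    autMap G, (mem_autGroup_iff hP.1).1 (hG.spec hE).1, hGQ, fun z hz => (hGX z hz).symm ▸ hz⟩)

theorem hfam_inner (hS : IsPGroup p S) (hE : E.IsNormalIn F p) {Q : Subgroup Ω}
    (hP : Cls F T (Q ⊔ X)) : autInducedBy (centralizerIn T X) Q ≤ hfam F E X Q := by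
  intro y hy
  obtain ⟨u, hu, hun, rfl⟩ := mem_autInducedBy.1 hy
  obtain ⟨huT, huc⟩ := FusionSys.mem_centralizerIn.1 hu
  haveI := finite_of_le hP.1
  have hfix : ∀ z ∈ X, u * z * u⁻¹ = z := fun z hz => by rw [← huc z hz, mul_inv_cancel_right]
  have huP : u ∈ Subgroup.normalizer ((Q ⊔ X : Subgroup Ω) : Set Ω) := mem_normalizer_of_maps fun w hw => by
    have := (isMap_conj F hP.1 (hE.1.2.2.2.1.1 huT)).mapsTo_sup (C := Q ⊔ X)
      (fun q hq => Subgroup.mem_sup_left (by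
        rw [conjMap_apply]; exact (Subgroup.mem_normalizer_iff.1 hun q).1 hq))
      (fun z hz => Subgroup.mem_sup_right (by rw [conjMap_apply, hfix z hz]; exact hz)) hw
    rwa [conjMap_apply] at this
  refine Subgroup.subset_closure ⟨conjAut huP, good_conj hS hE hP huT huP, fun z hz => ?_, fun q hq => ?_⟩
  · rw [autMap_conjAut huP (Subgroup.mem_sup_right hz), conjMap_apply, hfix z hz]
  · rw [autMap_conjAut huP (Subgroup.mem_sup_left hq), autMap_conjAut hun hq]

theorem hfam_transport (hS : IsPGroup p S) (hE : E.IsNormalIn F p) (hXS : X ≤ S)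
    (hN : F.IsNormalizerSystem X N) {Q R : Subgroup Ω} (hP : Cls F T (Q ⊔ X)) {f : Ω → Ω}
    (hf : IsIso N Q R f) {x : MulAut Q} (hx : x ∈ hfam F E X Q) : hf.autEquiv x ∈ hfam F E X R := by
  obtain ⟨G, hG, hGX, hGQ⟩ := mem_hfam hS hE hP hx
  obtain ⟨-, -, g, hg, hge, hgm⟩ := (isMap_norm hXS hN).1 hf.isMap
  haveI := finite_of_le hXS
  have hgX : IsIso F X X g := isIso_of_mapsTo (hg.mono le_sup_right) hgm
  have hi : IsIso F (Q ⊔ X) (R ⊔ X) g := by
    have himg : imgSub g (Q ⊔ X) = R ⊔ X := by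
      refine le_antisymm (fun y hy => ?_) (sup_le (fun y hy => ?_) fun y hy => ?_)
      · obtain ⟨w, hw, rfl⟩ := hg.mem_imgSub.1 hy
        exact hg.mapsTo_sup (fun q hq => Subgroup.mem_sup_left ((hge q hq).symm ▸ hf.mem hq))
          (fun z hz => Subgroup.mem_sup_right (hgm z hz)) hw
      · obtain ⟨q, hq, rfl⟩ := hf.exists_preimage hy
        exact hg.mem_imgSub.2 ⟨q, Subgroup.mem_sup_left hq, hge q hq⟩
      · obtain ⟨z, hz, rfl⟩ := hgX.exists_preimage hy
        exact hg.mem_imgSub.2 ⟨z, Subgroup.mem_sup_right hz, rfl⟩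
    exact himg ▸ hg.isIso
  refine Subgroup.subset_closure ⟨hi.autEquiv G, hG.transport hE hi, fun z hz => ?_, fun y hy => ?_⟩
  · obtain ⟨w, hw, rfl⟩ := hgX.exists_preimage hz
    rw [hi.autMap_autEquiv G (Subgroup.mem_sup_right hw), hGX w hw]
  · obtain ⟨q, hq, rfl⟩ := hf.exists_preimage hy
    rw [← hge q hq, hi.autMap_autEquiv G (Subgroup.mem_sup_left hq), hGQ q hq,
      hge _ (autMap_mem x hq), hge q hq, hf.autMap_autEquiv x hq]

theorem hfam_down (hS : IsPGroup p S) (hE : E.IsNormalIn F p) {Q W : Subgroup Ω}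
    (hQW : Q ≤ W) (hWT : W ≤ T) (hP : Cls F T (Q ⊔ X)) (hW : Cls F T (W ⊔ X))
    {y : MulAut W} (hy : y ∈ hfam F E X W) (hco : (orderOf y).Coprime p) {x : MulAut Q}
    (he : ∀ q ∈ Q, autMap x q = autMap y q) : x ∈ hfam F E X Q := by
  obtain ⟨G, hG, hGco, hGX, hGW⟩ := exists_lift_coprime hS hE hW hy hco
  have hPR : Q ⊔ X ≤ W ⊔ X := sup_le_sup_right hQW X
  haveI := finite_of_le hW.1
  have hGm := (mem_autGroup_iff hW.1).1 (hG.spec hE).1
  obtain ⟨G', -, hG'e, -⟩ := exists_restrict hW.1 hPR (hG.spec hE).1 fun w hw =>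
    (hGm.mono hPR).mapsTo_sup
      (fun q hq => Subgroup.mem_sup_left (by rw [hGW q (hQW hq), ← he q hq]; exact autMap_mem x hq))
      (fun z hz => Subgroup.mem_sup_right ((hGX z hz).symm ▸ hz)) hw
  have hRT : W ⊔ X ≤ (Q ⊔ X) ⊔ ((W ⊔ X) ⊓ T) :=
    sup_le (le_sup_of_le_right (le_inf le_sup_left hWT)) (le_sup_of_le_left le_sup_right)
  refine Subgroup.subset_closure ⟨G', (good_iff hS hE hP hPR hRT (hG.spec hE).1 hGco hG'e).2 hG,
    fun z hz => ?_, fun q hq => ?_⟩
  · rw [hG'e z (Subgroup.mem_sup_right hz), hGX z hz]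
  · rw [hG'e q (Subgroup.mem_sup_left hq), hGW q (hQW hq), he q hq]

theorem hfam_ext (hS : IsPGroup p S) (hE : E.IsNormalIn F p) (hX : F.IsFullyNormalized X)
    (hN : F.IsNormalizerSystem X N) {Q M : Subgroup Ω} (hQ : InH N (centralizerIn T X) Q)
    (hQM : Q ≤ M) (hM : M ≤ normalizerIn (centralizerIn T X) Q) {G : MulAut M} {x : MulAut Q}
    (hG : G ∈ N.autGroup M) (hco : (orderOf G).Coprime p) (hx : x ∈ hfam F E X Q)
    (he : ∀ q ∈ Q, autMap G q = autMap x q) : G ∈ hfam F E X M := by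
  have hF := hE.1.2.1
  have hT := hE.1.2.2.2.1
  have hXS := hX.1
  have hQU := hQ.1
  have hMU : M ≤ centralizerIn T X := hM.trans normalizerIn_le
  have hMT : M ≤ T := hMU.trans centralizerIn_le
  have hMN : M ≤ normalizerIn S X := hMU.trans (cent_le_norm hT.1)
  have hMS : M ≤ S := hMT.trans hT.1
  haveI := finite_of_le hXS
  haveI := finite_of_le hMS
  haveI : Finite Q := finite_of_le (hQM.trans hMS)
  have hP : Cls F T (Q ⊔ X) := cls_sup hS hE hX hN hQ
  have hUn : M ⊔ X ≤ S := sup_le hMS hXS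
  have hGN : IsMap N M (autMap G) := (mem_autGroup_iff hMN).1 hG
  haveI : Finite (normalizerIn S X) := finite_of_le normalizerIn_le
  have hxco : (orderOf x).Coprime p := by
    obtain ⟨r, -, hre, hro⟩ := exists_restrict hMN hQM hG fun q hq => he q hq ▸ autMap_mem x hq
    rw [show x = r from aut_ext fun q hq => by rw [hre q hq, he q hq]]
    exact hco.coprime_dvd_left hro
  set P := Q ⊔ X with hPdef
  obtain ⟨xh, hxg, hxhco, hxX, hxQ⟩ := exists_lift_coprime hS hE hP hx hxco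
  have hPS : P ≤ S := hP.1
  haveI := finite_of_le hPS
  have hxhF := (hxg.spec hE).1
  have hxhm := (mem_autGroup_iff hPS).1 hxhF
  set M' := M ⊔ X with hM'
  have hPM' : P ≤ M' := sup_le_sup_right hQM X
  have hMfix : ∀ m ∈ M, ∀ z ∈ X, m * z * m⁻¹ = z := fun m hm z hz => by
    rw [← (FusionSys.mem_centralizerIn.1 (hMU hm)).2 z hz, mul_inv_cancel_right]
  have hMP : M' ≤ normalizerIn S P := sup_le (fun m hm => ⟨hMS hm, mem_normalizer_of_maps fun w hw => by
    have := (isMap_conj F hPS (hMS hm)).mapsTo_sup (C := P)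
      (fun q hq => Subgroup.mem_sup_left (by
        rw [conjMap_apply]; exact (Subgroup.mem_normalizer_iff.1 (hM hm).2 q).1 hq))
      (fun z hz => Subgroup.mem_sup_right (by rw [conjMap_apply, hMfix m hm z hz]; exact hz)) hw
    rwa [conjMap_apply] at this⟩) ((le_sup_right : X ≤ P).trans (le_normalizerIn_self hPS))
  -- `x̂` normalizes `Aut_{M'}(P)`
  set Y0 := autInducedBy M' P with hY0
  have hY0I : Inn P ≤ Y0 := by
    rw [inn_eq_autInducedBy_self]
    exact autInducedBy_mono hPM'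
  have hxY0 : ∀ y ∈ Y0, xh * y * xh⁻¹ ∈ Y0 := by
    set Y1 := Y0.comap (MulAut.conj xh).toMonoidHom with hY1
    have hle : M' ≤ nSub S P Y1 := by
      refine sup_le (fun m hm => ?_) ((le_sup_right : X ≤ P).trans
        (le_nSub hPS (H89.Lift.inn_conj hY0I xh)))
      have hGm : autMap G m ∈ M := autMap_mem G hm
      have hmP := hMP (Subgroup.mem_sup_left hm)
      have hGmP := hMP (Subgroup.mem_sup_left hGm)
      refine mem_nSub.2 ⟨hmP, ?_⟩
      show xh * conjAut hmP.2 * xh⁻¹ ∈ Y0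
      refine mem_autInducedBy.2 ⟨autMap G m, Subgroup.mem_sup_left hGm, hGmP.2, lift_ext hPS
        (Subgroup.mul_mem _ (Subgroup.mul_mem _ hxhF (conjAut_mem_autGroup F hPS hmP))
          (Subgroup.inv_mem _ hxhF))
        (conjAut_mem_autGroup F hPS hGmP) (fun q hq => ?_) fun z hz => ?_⟩
      · obtain ⟨r, hr, rfl⟩ : ∃ r ∈ Q, autMap x r = q := ⟨_, autMap_mem x⁻¹ hq, autMap_inv_apply x hq⟩
        have hrP : r ∈ P := Subgroup.mem_sup_left hr
        have hxrP : autMap x r ∈ P := Subgroup.mem_sup_left hq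
        have hr' : m * r * m⁻¹ ∈ Q := (Subgroup.mem_normalizer_iff.1 (hM hm).2 r).1 hr
        have e : autMap xh⁻¹ (autMap x r) = r := by
          rw [← hxQ r hr]; exact S5114.inv_autMap_apply xh hrP
        rw [autMap_mul _ _ hxrP, autMap_mul _ _ (autMap_mem _ hxrP), e, autMap_conjAut hmP.2 hrP,
          autMap_conjAut hGmP.2 hxrP, conjMap_apply, conjMap_apply, hxQ _ hr', ← he _ hr',
          hGN.map_conj hm (hQM hr), he r hr]
      · have hzP : z ∈ P := Subgroup.mem_sup_right hz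
        have e : autMap xh⁻¹ z = z := by
          conv_lhs => rw [← hxX z hz]
          exact S5114.inv_autMap_apply xh hzP
        rw [autMap_mul _ _ hzP, autMap_mul _ _ (autMap_mem _ hzP), e, autMap_conjAut hmP.2 hzP,
          autMap_conjAut hGmP.2 hzP, conjMap_apply, conjMap_apply, hMfix m hm z hz,
          hMfix _ hGm z hz, hxX z hz]
    intro y hy
    obtain ⟨m, hm, hmn, rfl⟩ := mem_autInducedBy.1 hy
    obtain ⟨hm', hmY⟩ := mem_nSub.1 (hle hm)
    exact hmY
  -- extension at a fully normalized conjugate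
  obtain ⟨P', hP', hn⟩ := exists_isFullyNormalized F hPS
  obtain ⟨φ, hφ, hφi, hφn⟩ := exists_map_to_fullyNormalized hS hF hn hP'
  have hφM : IsMap F M' φ := hφ.mono hMP
  have hi : IsIso F M' (imgSub φ M') φ := hφM.isIso
  set M₁ := imgSub φ M' with hM₁
  have hM₁S : M₁ ≤ S := hi.target_le
  have hP'M₁ : P' ≤ M₁ := fun y hy => by
    obtain ⟨w, hw, rfl⟩ := hφi.exists_preimage hy
    exact hi.mem (hPM' hw)
  have hconj : ∀ {m : Ω} (hm : m ∈ M') (hm' : φ m ∈ Subgroup.normalizer (P' : Set Ω)),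
      hφi.autEquiv (conjAut (hMP hm).2) = conjAut hm' := fun {m} hm hm' => aut_ext fun y hy => by
    obtain ⟨w, hw, rfl⟩ := hφi.exists_preimage hy
    rw [hφi.autMap_autEquiv _ hw, autMap_conjAut _ hw, autMap_conjAut hm' hy, conjMap_apply,
      conjMap_apply, hφM.map_conj hm (hPM' hw)]
  set x' := hφi.autEquiv xh with hx'
  set Y' := autInducedBy M₁ P' with hY'
  have hY'I : Inn P' ≤ Y' := by
    rw [inn_eq_autInducedBy_self]
    exact autInducedBy_mono hP'M₁
  have hx'Y : ∀ y ∈ Y', x' * y * x'⁻¹ ∈ Y' := by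
    intro y hy
    obtain ⟨w, hw, hwn, rfl⟩ := mem_autInducedBy.1 hy
    obtain ⟨m, hm, rfl⟩ := hi.exists_preimage hw
    obtain ⟨m', hm', hm'n, hm'e⟩ := mem_autInducedBy.1
      (hxY0 (conjAut (hMP hm).2) (mem_autInducedBy.2 ⟨m, hm, (hMP hm).2, rfl⟩))
    have h1 : conjAut hm'n = conjAut (hMP hm').2 := rfl
    refine mem_autInducedBy.2 ⟨φ m', hi.mem hm', (hφn m' (hMP hm')).2, ?_⟩
    rw [← hconj hm hwn, hx', ← map_mul, ← map_inv, ← map_mul, hm'e, h1, hconj hm' (hφn m' (hMP hm')).2]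
  obtain ⟨G₀, hG₀, hG₀co, hG₀e, hG₀m⟩ := tm_ext hS hE hn (hP.map hφi) Y' hY'I (autInducedBy_mono hM₁S)
    x' (hxg.transport hE hφi) (by rwa [hx', orderOf_autEquiv]) hx'Y
  have hM₁N : M₁ ≤ nSub S P' Y' := fun w hw => by
    obtain ⟨m, hm, rfl⟩ := hi.exists_preimage hw
    exact mem_nSub.2 ⟨hφn m (hMP hm), mem_autInducedBy.2 ⟨φ m, hi.mem hm, _, rfl⟩⟩
  haveI := finite_of_le (nSub_le : nSub S P' Y' ≤ S)
  have hG₀M := (mem_autGroup_iff (nSub_le : nSub S P' Y' ≤ S)).1 hG₀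
  have hC := (hP.map hφi).cent_le
  have hgen : ∀ m ∈ M', autMap G₀ (φ m) ∈ M₁ := by
    have hcomp : IsMap F (M ⊔ X) (autMap G₀ ∘ φ) := hφM.comp hG₀M fun w hw => hM₁N (hi.mem hw)
    intro m hm
    refine hcomp.mapsTo_sup (fun m hm => ?_) (fun z hz => ?_) hm
    · have hmM : m ∈ M' := Subgroup.mem_sup_left hm
      have hGm : autMap G m ∈ M' := Subgroup.mem_sup_left (autMap_mem G hm)
      have hz : (φ (autMap G m))⁻¹ * autMap G₀ (φ m) ∈ P' := by
        refine hC (FusionSys.mem_centralizerIn.2 ⟨T.mul_mem (T.inv_mem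
          (mem_of_stronglyClosed hT hφM hGm (hMT (autMap_mem G hm))))
          (mem_of_stronglyClosed hT hG₀M (hM₁N (hi.mem hmM))
            (mem_of_stronglyClosed hT hφM hmM (hMT hm))), fun w hw => ?_⟩)
        obtain ⟨v, hv, rfl⟩ : ∃ v ∈ P', autMap x' v = w :=
          ⟨_, autMap_mem x'⁻¹ hw, autMap_inv_apply x' hw⟩
        have hv' : φ m * v * (φ m)⁻¹ ∈ P' :=
          (Subgroup.mem_normalizer_iff.1 (hφn m (hMP hmM)).2 v).1 hv
        have h1 := hG₀M.map_conj (hM₁N (hi.mem hmM)) (hM₁N (hP'M₁ hv))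
        rw [hG₀e _ hv', hG₀e v hv] at h1
        have h2 : autMap x' (φ m * v * (φ m)⁻¹) =
            φ (autMap G m) * autMap x' v * (φ (autMap G m))⁻¹ := by
          have hGmP := hMP hGm
          have key : xh * conjAut (hMP hmM).2 * xh⁻¹ = conjAut hGmP.2 := lift_ext hPS
            (Subgroup.mul_mem _ (Subgroup.mul_mem _ hxhF (conjAut_mem_autGroup F hPS (hMP hmM)))
              (Subgroup.inv_mem _ hxhF))
            (conjAut_mem_autGroup F hPS hGmP) (fun q hq => by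
              obtain ⟨r, hr, rfl⟩ : ∃ r ∈ Q, autMap x r = q :=
                ⟨_, autMap_mem x⁻¹ hq, autMap_inv_apply x hq⟩
              have hrP : r ∈ P := Subgroup.mem_sup_left hr
              have hxrP : autMap x r ∈ P := Subgroup.mem_sup_left hq
              have hr' : m * r * m⁻¹ ∈ Q := (Subgroup.mem_normalizer_iff.1 (hM hm).2 r).1 hr
              have e : autMap xh⁻¹ (autMap x r) = r := by
                rw [← hxQ r hr]; exact S5114.inv_autMap_apply xh hrP
              rw [autMap_mul _ _ hxrP, autMap_mul _ _ (autMap_mem _ hxrP), e, autMap_conjAut (hMP hmM).2 hrP,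
                autMap_conjAut hGmP.2 hxrP, conjMap_apply, conjMap_apply, hxQ _ hr', ← he _ hr',
                hGN.map_conj hm (hQM hr), he r hr]) fun z hz => by
              have hzP : z ∈ P := Subgroup.mem_sup_right hz
              have e : autMap xh⁻¹ z = z := by
                conv_lhs => rw [← hxX z hz]
                exact S5114.inv_autMap_apply xh hzP
              rw [autMap_mul _ _ hzP, autMap_mul _ _ (autMap_mem _ hzP), e, autMap_conjAut (hMP hmM).2 hzP,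
                autMap_conjAut hGmP.2 hzP, conjMap_apply, conjMap_apply, hMfix m hm z hz,
                hMfix _ (autMap_mem G hm) z hz, hxX z hz]
          have hk := congrArg hφi.autEquiv key
          rw [map_mul, map_mul, map_inv, ← hx', hconj hmM (hφn m (hMP hmM)).2,
            hconj hGm (hφn _ hGmP).2] at hk
          have h3 := congrArg (fun a => autMap a (autMap x' v)) hk
          rw [autMap_mul _ _ hw, autMap_mul _ _ (autMap_mem _ hw), S5114.inv_autMap_apply x' hv,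
            autMap_conjAut _ hv, autMap_conjAut _ hw, conjMap_apply, conjMap_apply] at h3
          exact h3
        calc autMap x' v * ((φ (autMap G m))⁻¹ * autMap G₀ (φ m))
            = (φ (autMap G m))⁻¹ * (φ (autMap G m) * autMap x' v * (φ (autMap G m))⁻¹) *
              autMap G₀ (φ m) := by group
          _ = _ := by rw [← h2, h1]; group
      have := M₁.mul_mem (hi.mem hGm) (hP'M₁ hz)
      rw [mul_inv_cancel_left] at this
      exact this
    · have hzP : z ∈ P := Subgroup.mem_sup_right hz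
      show autMap G₀ (φ z) ∈ M₁
      rw [hG₀e _ (hφi.mem hzP), hx', hφi.autMap_autEquiv xh hzP, hxX z hz]
      exact hi.mem (hPM' hzP)
  obtain ⟨G₁', hG₁', hG₁'e, hG₁'o⟩ := exists_restrict (nSub_le : nSub S P' Y' ≤ S) hM₁N hG₀
    fun w hw => by
      obtain ⟨m, hm, rfl⟩ := hi.exists_preimage hw
      exact hgen m hm
  obtain ⟨v, hv, hvφ, -⟩ := hi.exists_symm
  set G₁ := hv.autEquiv G₁' with hG₁
  have hG₁F : G₁ ∈ F.autGroup M' := hv.autEquiv_mem_autGroup hG₁'
  have hG₁co : (orderOf G₁).Coprime p := by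
    rw [hG₁, orderOf_autEquiv]
    exact hG₀co.coprime_dvd_left hG₁'o
  have hG₁P : ∀ w ∈ P, autMap G₁ w = autMap xh w := fun w hw => by
    have h1 := hv.autMap_autEquiv G₁' (hi.mem (hPM' hw))
    rw [hvφ w (hPM' hw), hG₁'e _ (hi.mem (hPM' hw)), hG₀e _ (hφi.mem hw), hx',
      hφi.autMap_autEquiv xh hw, hvφ _ (hPM' (autMap_mem xh hw))] at h1
    exact h1
  have hG₁good : Good F E M' G₁ := by
    refine (good_iff hS hE hP hPM' ?_ hG₁F hG₁co fun w hw => (hG₁P w hw).symm).1 hxg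
    exact sup_le (le_sup_of_le_right (le_inf le_sup_left hMT)) (le_sup_of_le_left le_sup_right)
  have hG₁X : ∀ z ∈ X, autMap G₁ z = z := fun z hz => by
    rw [hG₁P z (Subgroup.mem_sup_right hz), hxX z hz]
  have hG₁m : IsMap F M' (autMap G₁) := (mem_autGroup_iff hUn).1 hG₁F
  -- restriction to `M`
  have hdiff : ∀ m ∈ M, (autMap G m)⁻¹ * autMap G₁ m ∈ Q := fun m hm => by
    have hmM : m ∈ M' := Subgroup.mem_sup_left hm
    have hGm := autMap_mem G hm
    have hG₁T : autMap G₁ m ∈ T := mem_of_stronglyClosed hT hG₁m hmM (hMT hm)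
    refine hQ.2 Q (isConj_refl N (hQU.trans (cent_le_norm hT.1))) (FusionSys.mem_centralizerIn.2
      ⟨FusionSys.mem_centralizerIn.2 ⟨T.mul_mem (T.inv_mem (hMT hGm)) hG₁T, fun z hz => ?_⟩,
        fun q hq => ?_⟩)
    · have h1 : autMap G₁ m * z = z * autMap G₁ m := by
        conv_lhs => rw [← hG₁X z hz, ← hG₁m.map_mul hmM (Subgroup.mem_sup_right hz)]
        conv_rhs => rw [← hG₁X z hz, ← hG₁m.map_mul (Subgroup.mem_sup_right hz) hmM]
        rw [(FusionSys.mem_centralizerIn.1 (hMU hm)).2 z hz]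
      have h2 := (FusionSys.mem_centralizerIn.1 (hMU hGm)).2 z hz
      calc z * ((autMap G m)⁻¹ * autMap G₁ m) = (autMap G m)⁻¹ * (autMap G m * z) * (autMap G m)⁻¹ *
            autMap G₁ m := by group
        _ = (autMap G m)⁻¹ * (z * autMap G₁ m) := by rw [← h2]; group
        _ = _ := by rw [← h1]; group
    · obtain ⟨r, hr, rfl⟩ : ∃ r ∈ Q, autMap x r = q := ⟨_, autMap_mem x⁻¹ hq, autMap_inv_apply x hq⟩
      have hr' : m * r * m⁻¹ ∈ Q := (Subgroup.mem_normalizer_iff.1 (hM hm).2 r).1 hr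
      have h1 := hG₁m.map_conj hmM (hPM' (Subgroup.mem_sup_left hr))
      rw [hG₁P _ (Subgroup.mem_sup_left hr'), hG₁P r (Subgroup.mem_sup_left hr), hxQ _ hr',
        hxQ r hr, ← he _ hr', hGN.map_conj hm (hQM hr), he r hr] at h1
      calc autMap x r * ((autMap G m)⁻¹ * autMap G₁ m)
          = (autMap G m)⁻¹ * (autMap G m * autMap x r * (autMap G m)⁻¹) * autMap G₁ m := by group
        _ = _ := by rw [h1]; group
  obtain ⟨G₃, hG₃F, hG₃e, -⟩ := exists_restrict hUn (le_sup_left : M ≤ M') hG₁F fun m hm => by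
    have := M.mul_mem (autMap_mem G hm) (hQM (hdiff m hm))
    rwa [mul_inv_cancel_left] at this
  have hG₃H : G₃ ∈ hfam F E X M := Subgroup.subset_closure ⟨G₁, hG₁good, hG₁X, fun m hm => (hG₃e m hm).symm⟩
  have hPM : Cls F T (M ⊔ X) := hP.mono hPM' hUn
  have hG₃N := hfam_le_aut hS hE hXS hN hMN hPM hG₃H
  set δ := G₃⁻¹ * G with hδ
  have hδN : δ ∈ N.autGroup M := Subgroup.mul_mem _ (Subgroup.inv_mem _ hG₃N) hG
  haveI := finite_of_le (normalizerIn_le : normalizerIn S X ≤ S)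
  have hG₃Q : ∀ q ∈ Q, autMap G₃ q = autMap x q := fun q hq => by
    rw [hG₃e q (hQM hq), hG₁P q (Subgroup.mem_sup_left hq), hxQ q hq]
  have hδQ : ∀ q ∈ Q, autMap δ q = q := fun q hq => by
    rw [hδ, autMap_mul _ _ (hQM hq), he q hq, ← hG₃Q q hq, S5114.inv_autMap_apply G₃ (hQM hq)]
  have hδm : ∀ m ∈ M, m⁻¹ * autMap δ m ∈ Q := fun m hm => by
    obtain ⟨q, hq, hqe⟩ : ∃ q ∈ Q, autMap x q = (autMap G₁ m)⁻¹ * autMap G m := by
      refine ⟨_, autMap_mem x⁻¹ ?_, autMap_inv_apply x ?_⟩ <;>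
      · have := Q.inv_mem (hdiff m hm)
        rwa [_root_.mul_inv_rev, inv_inv] at this
    have h1 : autMap G m = autMap G₃ (m * q) := by
      rw [((mem_autGroup_iff hMS).1 hG₃F).map_mul hm (hQM hq), hG₃e m hm, hG₃Q q hq, hqe,
        mul_inv_cancel_left]
    rw [hδ, autMap_mul _ _ hm, h1, S5114.inv_autMap_apply G₃ (M.mul_mem hm (hQM hq)), inv_mul_cancel_left]
    exact hq
  obtain ⟨n, hn'⟩ := IsPGroup.iff_card.1 (hS.to_le (hQM.trans hMS))
  refine mem_of_mul_periodic hG₃H (fun j y hy => ?_) (d := δ) (by rw [hδ, mul_inv_cancel_left])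
    (n := n) ?_ hco
  · have hdj := pow_mem hδN j
    have hi := isIso_autMap hMN hdj
    have h1 : hi.autEquiv y = δ ^ j * y * (δ ^ j)⁻¹ := aut_ext fun w hw => by
      obtain ⟨z, hz, rfl⟩ := hi.exists_preimage hw
      rw [hi.autMap_autEquiv y hz, autMap_mul _ _ (autMap_mem _ hz), S5114.inv_autMap_apply _ hz,
        autMap_mul _ _ hz]
    exact h1 ▸ hfam_transport hS hE hXS hN hPM hi hy
  · rw [← hn', pow_card_eq_one_of_moves hMN hQM hδN hδQ hδm]
    exact one_mem _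

/-- The focal condition. -/
theorem hfam_focal (hS : IsPGroup p S) (hE : E.IsNormalIn F p) (hX : F.IsFullyNormalized X)
    (hN : F.IsNormalizerSystem X N) {Q : Subgroup Ω} (hQ : InH N (centralizerIn T X) Q)
    (hQn : N.IsFullyNormalized Q) :
    (pResidual p (hfam F E X Q)).map (hfam F E X Q).subtype ⊓ autInducedBy (normalizerIn S X) Q ≤
      autInducedBy (centralizerIn T X) Q := by
  have hF := hE.1.2.1
  have hT := hE.1.2.2.2.1
  have hXS := hX.1
  set U := centralizerIn T X with hU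
  have hUS0 : U ≤ (normalizerIn S X) := cent_le_norm hT.1
  haveI : Finite (normalizerIn S X) := finite_of_le normalizerIn_le
  have hS0p : IsPGroup p (normalizerIn S X) := hS.to_le normalizerIn_le
  have hNs : N.IsSaturated p := FusionSys.isSaturated_normalizer hS hF hX hN
  have hP : Cls F T (Q ⊔ X) := cls_sup hS hE hX hN hQ
  have hPS := hP.1
  have hQN := hQn.1
  have hQU := hQ.1
  haveI := finite_of_le hXS
  haveI := finite_of_le hPS
  haveI := finite_mulAut_of_le hPS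
  haveI : Finite Q := finite_of_le hQN
  haveI := finite_mulAut_of_le hQN
  set H := hfam F E X Q with hH
  set A := (pResidual p H).map H.subtype with hA
  have hAH : A ≤ H := Subgroup.map_subtype_le _
  have hHN : H ≤ N.autGroup Q := hfam_le_aut hS hE hXS hN hQN hP
  have hHn : ∀ γ ∈ N.autGroup Q, ∀ a ∈ H, γ * a * γ⁻¹ ∈ H := fun γ hγ a ha => by
    have hi := isIso_autMap hQN hγ
    have h1 : hi.autEquiv a = γ * a * γ⁻¹ := aut_ext fun w hw => by
      obtain ⟨z, hz, rfl⟩ := hi.exists_preimage hw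
      rw [hi.autMap_autEquiv a hz, autMap_mul _ _ (autMap_mem _ hz), S5114.inv_autMap_apply _ hz,
        autMap_mul _ _ hz]
    exact h1 ▸ hfam_transport hS hE hXS hN hP hi ha
  have hAn : ∀ γ ∈ N.autGroup Q, ∀ a ∈ A, γ * a * γ⁻¹ ∈ A := by
    intro γ hγ a ha
    have hle : A ≤ A.comap (MulAut.conj γ).toMonoidHom := by
      rw [hA, Subgroup.map_le_iff_le_comap]
      refine Cores.pResidual_le fun b hb => ?_
      refine ⟨⟨γ * b * γ⁻¹, hHn γ hγ b b.2⟩, Cores.mem_pResidual_of_coprime ?_, rfl⟩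
      rw [Subgroup.orderOf_mk]
      show (orderOf ((MulAut.conj γ) (b : MulAut Q))).Coprime p
      rwa [MulEquiv.orderOf_eq, Subgroup.orderOf_coe]
    exact hle ha
  -- its Sylow subgroup
  haveI := finite_autGroup N hQN
  obtain ⟨-, Sy, hSy⟩ := isFullyAutomized_of_isFullyNormalized hS0p hNs hQn
  haveI : (A.subgroupOf (N.autGroup Q)).Normal := ⟨fun a ha g => hAn g g.2 a ha⟩
  have hsy : IsSylowIn p (A ⊓ autInducedBy (normalizerIn S X) Q) A := by
    have h := H48.isSylowIn_inf_normal Sy (A.subgroupOf (N.autGroup Q))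
    refine ⟨inf_le_left, (isPGroup_autInducedBy hS0p Q).to_le inf_le_right, fun hd => h.ndvd ?_⟩
    have h1 : (Sy : Subgroup (N.autGroup Q)) ⊓ A.subgroupOf (N.autGroup Q) =
        (A ⊓ autInducedBy (normalizerIn S X) Q).comap (N.autGroup Q).subtype := by
      rw [hSy, inf_comm, Subgroup.comap_inf]
      rfl
    rw [h1, Subgroup.relIndex_comap, Subgroup.map_subgroupOf_eq_of_le (hAH.trans hHN)]
    exact hd
  set PA : Sylow p A := hsy.toSylow with hPA
  -- lifts
  choose lift hlg hlX hlQ using fun a : A => mem_hfam hS hE hP (hAH a.2)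
  have hlF : ∀ a : A, lift a ∈ F.autGroup (Q ⊔ X) := fun a => ((hlg a).spec hE).1
  let ρ : A →* MulAut (Q ⊔ X : Subgroup Ω) := MonoidHom.mk' lift fun a b =>
    lift_ext hPS (hlF _) (Subgroup.mul_mem _ (hlF a) (hlF b)) (fun q hq => by
        rw [hlQ (a * b) q hq, autMap_mul _ _ (Subgroup.mem_sup_left hq), hlQ b q hq,
          hlQ a _ (autMap_mem _ hq)]
        exact autMap_mul _ _ hq)
      fun z hz => by
        rw [hlX (a * b) z hz, autMap_mul _ _ (Subgroup.mem_sup_right hz), hlX b z hz, hlX a z hz]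
  -- move `Q X` so that the Sylow subgroup lands in `Aut_S`
  obtain ⟨P', hP', hn⟩ := exists_isFullyNormalized F hPS
  obtain ⟨f, hf⟩ := isConj_iff.1 hP'
  haveI := finite_of_le hn.1
  haveI := finite_mulAut_of_le hn.1
  set Y := ((PA : Subgroup A).map ρ).map hf.autEquiv.toMonoidHom with hY
  have hYp : IsPGroup p Y := (PA.isPGroup'.map ρ).map _
  have hYF : Y ≤ F.autGroup P' := by
    rintro _ ⟨_, ⟨a, -, rfl⟩, rfl⟩
    exact hf.autEquiv_mem_autGroup (hlF a)
  obtain ⟨β, hβ, hβY⟩ := (isSylowIn_of_fullyAutomized hS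
    (isFullyAutomized_of_isFullyNormalized hS hF hn)).exists_cj_le hYp hYF
  have hi : IsIso F (Q ⊔ X) P' (autMap β ∘ f) := hf.comp (isIso_autMap hn.1 hβ)
  set ψ := autMap β ∘ f with hψ
  set ρ' : A →* MulAut P' := hi.autEquiv.toMonoidHom.comp ρ with hρ'
  have hρY : ∀ a ∈ (PA : Subgroup A), ρ' a ∈ autInducedBy S P' := fun a ha => by
    have h1 := H48.cj_le.1 hβY _ ⟨_, ⟨a, ha, rfl⟩, rfl⟩
    convert h1 using 1
    refine aut_ext fun y hy => ?_
    obtain ⟨w, hw, rfl⟩ := hi.exists_preimage hy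
    show autMap (hi.autEquiv (ρ a)) (ψ w) = autMap (β * hf.autEquiv (ρ a) * β⁻¹) (ψ w)
    have hfw := hf.mem hw
    rw [hi.autMap_autEquiv _ hw, hψ, Function.comp_apply, Function.comp_apply,
      autMap_mul _ _ (autMap_mem β hfw), autMap_mul _ _ (autMap_mem _ (autMap_mem β hfw)),
      S5114.inv_autMap_apply β hfw, hf.autMap_autEquiv _ hw]
  set X' := imgSub ψ X with hX'
  have hXi : IsIso F X X' ψ := (hi.isMap.mono le_sup_right).isIso
  have hX'P : X' ≤ P' := fun y hy => by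
    obtain ⟨z, hz, rfl⟩ := hXi.exists_preimage hy
    exact hi.mem (Subgroup.mem_sup_right hz)
  have htop : pResidual p A = ⊤ := by
    let e : pResidual p H ≃* A := (pResidual p H).equivMapOfInjective H.subtype H.subtype_injective
    rw [← Fusion.map_pResidual_of_surjective e.toMonoidHom e.surjective,
      Fusion.pResidual_pResidual_eq_top, ← MonoidHom.range_eq_map,
      MonoidHom.range_eq_top.2 e.surjective]
  have hcore := focal_core hS hE hn (hP.map hi) hX'P htop ρ'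
    (fun a => (hlg a).transport hE hi) (fun a z hz => by
      obtain ⟨w, hw, rfl⟩ := hXi.exists_preimage hz
      show autMap (hi.autEquiv (ρ a)) (ψ w) = ψ w
      rw [hi.autMap_autEquiv _ (Subgroup.mem_sup_right hw)]
      exact congrArg ψ (hlX a w hw)) PA hρY
  -- back into `N`
  obtain ⟨χ, hχ, hχi, hχn⟩ := exists_map_to_fullyNormalized hS hF hX (isConj_symm hXi.isConj)
  have hP'N : P' ≤ normalizerIn S X' := fun y hy => by
    obtain ⟨w, hw, rfl⟩ := hi.exists_preimage hy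
    exact hXi.mem_normalizerIn_of_extends hi.isMap le_sup_right (fun _ _ => rfl) hw
      ((sup_le hQN (le_normalizerIn_self hXS)) hw).2
  have hNQ : IsMap N Q (χ ∘ ψ) := (isMap_norm hXS hN).2 ⟨hQN,
    fun x hx => hχn _ (hP'N (hi.mem (Subgroup.mem_sup_left hx))), _,
    hi.isMap.comp hχ fun x hx => hP'N (hi.mem hx), fun _ _ => rfl,
    fun z hz => hχi.mem (hXi.mem hz)⟩
  obtain ⟨g, hg, hgi, hgn⟩ := exists_map_to_fullyNormalized hS0p hNs hQn (isConj_symm hNQ.isIso.isConj)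
  obtain ⟨γ, hγ, hγe⟩ := (hNQ.isIso.comp hgi).exists_aut
  have hγA : ∀ a : A, a ∈ (PA : Subgroup A) → γ * (a : MulAut Q) * γ⁻¹ ∈ autInducedBy U Q := by
    intro a ha
    obtain ⟨t, ht, htn, hte⟩ := mem_autInducedBy.1 (hcore a ha)
    obtain ⟨htT, htc⟩ := FusionSys.mem_centralizerIn.1 ht
    have htN : t ∈ normalizerIn S X' := centralizerIn_le_normalizerIn
      (FusionSys.mem_centralizerIn.2 ⟨hT.1 htT, htc⟩)
    have hχU : χ t ∈ U := FusionSys.mem_centralizerIn.2 ⟨mem_of_stronglyClosed hT hχ htN htT, fun z hz => by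
      obtain ⟨w, hw, rfl⟩ := hχi.exists_preimage hz
      rw [← hχ.map_mul (hP'N (hX'P hw)) htN, ← hχ.map_mul htN (hP'N (hX'P hw)), htc w hw]⟩
    have hψt : ∀ q ∈ Q, χ (ψ (autMap (a : MulAut Q) q)) = χ t * χ (ψ q) * (χ t)⁻¹ := fun q hq => by
      have hqP : q ∈ Q ⊔ X := Subgroup.mem_sup_left hq
      have h1 : autMap (ρ' a) (ψ q) = ψ (autMap (a : MulAut Q) q) := by
        show autMap (hi.autEquiv (ρ a)) (ψ q) = _
        rw [hi.autMap_autEquiv _ hqP]
        exact congrArg ψ (hlQ a q hq)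
      rw [← h1, hte, autMap_conjAut htn (hi.mem hqP), conjMap_apply, hχ.map_conj htN (hP'N (hi.mem hqP))]
    have hχn' : χ t ∈ normalizerIn (normalizerIn S X) (imgSub (χ ∘ ψ) Q) := by
      haveI := finite_of_le (hNQ.imgSub_le)
      refine ⟨hUS0 hχU, mem_normalizer_of_maps fun y hy => ?_⟩
      obtain ⟨q, hq, rfl⟩ := hNQ.mem_imgSub.1 hy
      rw [Function.comp_apply, ← hψt q hq]
      exact hNQ.mem_imgSub.2 ⟨_, autMap_mem _ hq, rfl⟩
    refine mem_autInducedBy.2 ⟨g (χ t),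
      mem_of_stronglyClosed (closed_cent hXS hN hT) hg hχn' hχU, (hgn _ hχn').2,
      aut_ext fun y hy => ?_⟩
    obtain ⟨q, hq, rfl⟩ : ∃ q ∈ Q, autMap γ q = y := ⟨_, autMap_mem γ⁻¹ hy, autMap_inv_apply γ hy⟩
    have hq' : χ (ψ q) ∈ imgSub (χ ∘ ψ) Q := hNQ.mem_imgSub.2 ⟨q, hq, rfl⟩
    rw [autMap_mul _ _ hy, autMap_mul _ _ (autMap_mem _ hy), S5114.inv_autMap_apply γ hq,
      autMap_conjAut _ hy, conjMap_apply, hγe _ (autMap_mem _ hq), hγe q hq, Function.comp_apply,
      Function.comp_apply, Function.comp_apply, Function.comp_apply, hψt q hq,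
      hg.map_conj hχn' (le_normalizerIn_self (hNQ.imgSub_le) hq')]
  -- compare orders
  haveI : Finite (autInducedBy U Q) := inferInstance
  set P1 := A ⊓ autInducedBy (normalizerIn S X) Q with hP1
  have hP1γ : P1.map (MulAut.conj γ).toMonoidHom ≤ A ⊓ autInducedBy U Q := by
    rintro _ ⟨a, ha, rfl⟩
    refine ⟨hAn γ hγ a ha.1, hγA ⟨a, ha.1⟩ ?_⟩
    rw [hPA, hsy.coe_toSylow]
    exact ha
  have hle : A ⊓ autInducedBy U Q ≤ P1 := inf_le_inf_left A (autInducedBy_mono hUS0)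
  intro y hy
  have heq : A ⊓ autInducedBy U Q = P1 := Subgroup.eq_of_le_of_card_ge hle (by
    rw [← Subgroup.card_map_of_injective (K := P1) (f := (MulAut.conj γ).toMonoidHom)
      (MulAut.conj γ).injective]
    exact Subgroup.card_le_of_le hP1γ)
  exact (heq.ge hy).2

/-- The hypotheses of the generation construction. -/
theorem local_setup (hS : IsPGroup p S) (hE : E.IsNormalIn F p) (hX : F.IsFullyNormalized X)
    (hN : F.IsNormalizerSystem X N) :
    GenA.Setup p N (centralizerIn T X) (hfam F E X) := by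
  have hT := hE.1.2.2.2.1
  have hXS := hX.1
  haveI : Finite (normalizerIn S X) := finite_of_le normalizerIn_le
  exact
  { hS := hS.to_le normalizerIn_le
    hF := FusionSys.isSaturated_normalizer hS hE.1.2.1 hX hN
    hT := closed_cent hXS hN hT
    le_autF := fun Q hQ => hfam_le_aut hS hE hXS hN (hQ.1.trans (cent_le_norm hT.1))
      (cls_sup hS hE hX hN hQ)
    inner := fun Q hQ => hfam_inner hS hE (cls_sup hS hE hX hN hQ)
    transport := fun Q R f hQ hf α hα => hfam_transport hS hE hXS hN (cls_sup hS hE hX hN hQ) hf hα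
    ext := fun Q M hQ _ hQM hM G x hG hco hx he => hfam_ext hS hE hX hN hQ hQM hM hG hco hx he
    down := fun Q W hQ hQW hWU y hy hco x he => hfam_down hS hE hQW (hWU.trans centralizerIn_le)
      (cls_sup hS hE hX hN hQ) (cls_sup hS hE hX hN ⟨hWU, hQ.2.mono hQW⟩) hy hco he
    focal := fun Q hQ hQn => hfam_focal hS hE hX hN hQ hQn }

end Cfsg.Agent.Signalizer.EBal
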